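import Cfsg.Agent.RuSylow.Basic

/-!
The structure of a 2-group of Rudvalis type.
-/

set_option autoImplicit false
set_option linter.style.haveILetI false
set_option linter.unusedSectionVars false

namespace Cfsg.Lib.RuSylow

open Subgroup
open scoped commutatorElement

/-- The facts used about the 2-group `P` and its subgroup `W`. -/
structure Core {G : Type*} [Group G] (P W : Subgroup G) : Prop where
  le : W ≤ P
  norm : ∀ p ∈ P, ∀ w ∈ W, p * w * p⁻¹ ∈ W
  index : W.relIndex P = 8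
  cardW : Nat.card W = 2 ^ 11
  cardD : Nat.card (sq W) = 8
  hidx : ∀ U : Subgroup G, U ≤ W → U.relIndex W ≤ 16 → sq W ≤ U
  comm : ⁅W, W⁆ = sq W
  central : ∀ w ∈ W, ∀ d ∈ sq W, w * d = d * w
  exp : ∀ d ∈ sq W, d * d = 1
  faithful : ∀ t ∈ P, (∀ d ∈ sq W, t * d = d * t) → t ∈ W
  flag : ∃ z₁ z₂ z₃ : G, z₁ ∈ sq W ∧ z₂ ∈ sq W ∧ z₃ ∈ sq W ∧ z₁ ≠ 1 ∧ z₂ ≠ 1 ∧ z₂ ≠ z₁ ∧
    sq W ≤ closure {z₁, z₂, z₃} ∧ (∀ t ∈ P, t * z₁ = z₁ * t) ∧
    (∀ e ∈ ({1, z₁} : Set G), ∀ e' ∈ ({1, z₁, z₂, z₁ * z₂} : Set G),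
      ∃ t ∈ P, t * z₂ * t⁻¹ = e * z₂ ∧ t * z₃ * t⁻¹ = e' * z₃) ∧
    (∀ d ∈ sq W, (∀ t ∈ P, t * d = d * t) → d = 1 ∨ d = z₁) ∧
    (∀ d ∈ sq W, (∀ t ∈ P, t * d * t⁻¹ * d⁻¹ ∈ ({1, z₁} : Set G)) → d ∈ ({1, z₁, z₂, z₁ * z₂} : Set G)) ∧
    (∀ t ∈ P, t * z₂ * t⁻¹ * z₂⁻¹ ∈ ({1, z₁} : Set G)) ∧ z₃ ∉ ({1, z₁, z₂, z₁ * z₂} : Set G) ∧
    ∀ d ∈ sq W, d ∈ ({1, z₁, z₂, z₁ * z₂} : Set G) ∨ z₃⁻¹ * d ∈ ({1, z₁, z₂, z₁ * z₂} : Set G)
  fixed : ∃ v ∈ W, v ∉ sq W ∧ (∀ t ∈ P, t * v * t⁻¹ * v⁻¹ ∈ sq W) ∧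
    ∀ N : Subgroup G, N ≤ W → sq W ≤ N → ¬ N ≤ sq W → (∀ t ∈ P, ∀ n ∈ N, t * n * t⁻¹ ∈ N) → v ∈ N

theorem Core.map {G H : Type*} [Group G] [Group H] {P W : Subgroup G} (h : Core P W) (f : G →* H)
    (hf : Function.Injective f) : Core (P.map f) (W.map f) := by
  have hs : sq (W.map f) = (sq W).map f := (map_sq W f).symm
  have hm : ∀ {U : Subgroup G} {x : G}, f x ∈ U.map f ↔ x ∈ U := fun {U x} =>
    ⟨fun ⟨y, hy, e⟩ => hf e ▸ hy, mem_map_of_mem f⟩
  obtain ⟨z₁, z₂, z₃, h1, h2, h3, n1, n2, n21, hcl, hz1, hall, hfix1, hfix2, hz2m, hz3n, hcos⟩ := h.flag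
  obtain ⟨v, hvW, hvD, hvf, hvu⟩ := h.fixed
  refine ⟨map_mono h.le, ?_, ?_, ?_, ?_, ?_, ?_, ?_, ?_, ?_, ⟨f z₁, f z₂, f z₃, ?_⟩, ⟨f v, ?_⟩⟩
  · rintro _ ⟨p, hp, rfl⟩ _ ⟨w, hw, rfl⟩
    exact ⟨_, h.norm p hp w hw, by simp⟩
  · rw [relIndex_map_map_of_injective _ _ hf]; exact h.index
  · rw [card_map_of_injective hf]; exact h.cardW
  · rw [hs, card_map_of_injective hf]; exact h.cardD
  · intro U hU hi
    rw [hs, map_le_iff_le_comap]
    refine h.hidx _ (fun x hx => hm.1 (hU hx)) ?_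
    rwa [relIndex_comap]
  · rw [← map_commutator, h.comm, hs]
  · rw [hs]; rintro _ ⟨w, hw, rfl⟩ _ ⟨d, hd, rfl⟩; rw [← map_mul, ← map_mul, h.central w hw d hd]
  · rw [hs]; rintro _ ⟨d, hd, rfl⟩; rw [← map_mul, h.exp d hd, map_one]
  · rw [hs]; rintro _ ⟨t, ht, rfl⟩ hc
    exact mem_map_of_mem f (h.faithful t ht fun d hd => hf (by rw [map_mul, map_mul]; exact hc _ ⟨d, hd, rfl⟩))
  · rw [hs]
    refine ⟨hm.2 h1, hm.2 h2, hm.2 h3, fun e => n1 (hf (by rw [e, map_one])), fun e => n2 (hf (by rw [e, map_one])),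
      fun e => n21 (hf e), ?_, ?_, ?_, ?_, ?_, ?_, ?_, ?_⟩
    · refine le_trans (map_mono hcl) (le_of_eq ?_)
      rw [MonoidHom.map_closure, Set.image_insert_eq, Set.image_insert_eq, Set.image_singleton]
    · rintro _ ⟨t, ht, rfl⟩; rw [← map_mul, ← map_mul, hz1 t ht]
    · intro e he e' he'
      have hx : ∃ x ∈ ({1, z₁} : Set G), f x = e := by
        rcases he with rfl | rfl
        · exact ⟨1, by simp, map_one f⟩
        · exact ⟨z₁, by simp, rfl⟩
      have hx' : ∃ x ∈ ({1, z₁, z₂, z₁ * z₂} : Set G), f x = e' := by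
        rcases he' with rfl | rfl | rfl | rfl
        · exact ⟨1, by simp, map_one f⟩
        · exact ⟨z₁, by simp, rfl⟩
        · exact ⟨z₂, by simp, rfl⟩
        · exact ⟨z₁ * z₂, by simp, map_mul f _ _⟩
      obtain ⟨x, hx, rfl⟩ := hx
      obtain ⟨x', hx', rfl⟩ := hx'
      obtain ⟨t, ht, e1, e2⟩ := hall x hx x' hx'
      exact ⟨f t, mem_map_of_mem f ht, by rw [← map_inv, ← map_mul, ← map_mul, ← map_mul, e1],
        by rw [← map_inv, ← map_mul, ← map_mul, ← map_mul, e2]⟩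
    · rintro _ ⟨d, hd, rfl⟩ hc
      rcases hfix1 d hd (fun t ht => hf (by rw [map_mul, map_mul]; exact hc _ (mem_map_of_mem f ht))) with e | e
      · exact Or.inl (by rw [e, map_one])
      · exact Or.inr (by rw [e])
    · rintro _ ⟨d, hd, rfl⟩ hc
      have := hfix2 d hd fun t ht => by
        have := hc _ (mem_map_of_mem f ht)
        rw [← map_inv, ← map_inv, ← map_mul, ← map_mul, ← map_mul] at this
        rcases this with e | e
        · exact Or.inl (hf (by rw [e, map_one]))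
        · exact Or.inr (hf e)
      rcases this with rfl | rfl | rfl | rfl <;> simp
    · rintro _ ⟨t, ht, rfl⟩
      rw [← map_inv, ← map_inv, ← map_mul, ← map_mul, ← map_mul]
      rcases hz2m t ht with e | e <;> rw [e] <;> simp
    · rintro (e | e | e | e)
      · exact hz3n (Or.inl (hf (by rw [e, map_one])))
      · exact hz3n (Or.inr (Or.inl (hf e)))
      · exact hz3n (Or.inr (Or.inr (Or.inl (hf e))))
      · exact hz3n (Or.inr (Or.inr (Or.inr (hf (by rw [map_mul]; exact e)))))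
    · rintro _ ⟨d, hd, rfl⟩
      rw [← map_inv, ← map_mul f z₃⁻¹ d]
      rcases hcos d hd with (e | e | e | e) | (e | e | e | e) <;> first
        | (left; rw [e]; simp; done)
        | (right; rw [e]; simp; done)
  · rw [hs]
    refine ⟨hm.2 hvW, fun hc => hvD (hm.1 hc), ?_, ?_⟩
    · rintro _ ⟨t, ht, rfl⟩
      exact ⟨_, hvf t ht, by simp⟩
    · intro N hN hDN hne hnorm
      refine hvu (N.comap f) (fun x hx => hm.1 (hN hx)) (fun x hx => hDN (mem_map_of_mem f hx)) (fun hc => hne ?_)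
        fun t ht n hn => by
          show f (t * n * t⁻¹) ∈ N
          rw [map_mul, map_mul, map_inv]
          exact hnorm _ (mem_map_of_mem f ht) _ hn
      intro y hy
      obtain ⟨x, -, rfl⟩ := hN hy
      exact mem_map_of_mem f (hc hy)

open scoped Pointwise in
/-- The hypotheses give the structure. -/
theorem core_of_hyp {T : Type*} [Group T] [Finite T] (hT : IsPGroup 2 T) (ha : 2 ^ 14 ≤ Nat.card T)
    (hb : Nat.card (Subgroup.upperCentralSeries T 4) = 16) (W : Subgroup T)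
    (hW : W = centralizer ((Subgroup.upperCentralSeries T 3 : Subgroup T) : Set T))
    (hc : Nat.card (frattini ↥W) ≤ 8) (hd : ∀ U : Subgroup ↥W, U.index ≤ 16 → frattini ↥W ≤ U) :
    Core (⊤ : Subgroup T) W ∧ Nat.card T = 2 ^ 14 := by
  classical
  haveI : Fact (Nat.Prime 2) := ⟨Nat.prime_two⟩
  haveI := hT.isNilpotent
  set Z := Subgroup.upperCentralSeries T with hZ
  have hne : ∀ i, i ≤ 4 → Z i ≠ ⊤ := fun i hi h => by
    have hm : Z i ≤ Z 4 := Subgroup.upperCentralSeries_mono T hi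
    rw [h, top_le_iff] at hm
    rw [hm, card_top] at hb; omega
  have c0 : Nat.card (Z 0) = 1 := by rw [hZ, Subgroup.upperCentralSeries_zero, card_bot]
  have g0 : 2 * Nat.card (Z 0) ≤ Nat.card (Z 1) := two_mul_card_le hT (hne 0 (by norm_num))
  have g1 : 2 * Nat.card (Z 1) ≤ Nat.card (Z 2) := two_mul_card_le hT (hne 1 (by norm_num))
  have g2 : 2 * Nat.card (Z 2) ≤ Nat.card (Z 3) := two_mul_card_le hT (hne 2 (by norm_num))
  have g3 : 2 * Nat.card (Z 3) ≤ Nat.card (Z 4) := two_mul_card_le hT (hne 3 (by norm_num))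
  have g4 : Nat.card (Z 4) = 16 := hb
  have c1 : Nat.card (Z 1) = 2 := by omega
  have c2 : Nat.card (Z 2) = 4 := by omega
  have c3 : Nat.card (Z 3) = 8 := by omega
  have m12 : Z 1 ≤ Z 2 := Subgroup.upperCentralSeries_mono T one_le_two
  have m23 : Z 2 ≤ Z 3 := Subgroup.upperCentralSeries_mono T (by norm_num)
  have hcomm : ∀ i, ∀ x ∈ Z (i + 1), ∀ t : T, t * x * t⁻¹ * x⁻¹ ∈ Z i := fun i x hx t => by
    have h := Subgroup.mem_upperCentralSeries_succ_iff.1 hx t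
    rw [show t * x * t⁻¹ * x⁻¹ = ⁅x, t⁆⁻¹ by rw [commutatorElement_def]; group]
    exact inv_mem h
  haveI hWn : W.Normal := by rw [hW]; infer_instance
  -- chosen generators
  obtain ⟨z₁, hz₁, hz₁n⟩ : ∃ z ∈ Z 1, z ≠ 1 := (Z 1).bot_or_exists_ne_one.resolve_left fun h => by
    rw [h, card_bot] at c1; omega
  obtain ⟨z₂, hz₂, hz₂n⟩ := SetLike.exists_of_lt (lt_of_le_of_ne m12 fun e => by rw [e] at c1; omega)
  obtain ⟨z₃, hz₃, hz₃n⟩ := SetLike.exists_of_lt (lt_of_le_of_ne m23 fun e => by rw [e] at c2; omega)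
  have idx2 : ∀ {A B : Subgroup T}, A ≤ B → Nat.card B = 2 * Nat.card A → ∀ z ∈ B, z ∉ A → ∀ x ∈ B,
      x ∈ A ∨ z⁻¹ * x ∈ A := by
    intro A B hAB hcard z hz hzA x hx
    have h2 : (A.subgroupOf B).index = 2 := by
      have h := relIndex_mul_relIndex ⊥ A B bot_le hAB
      rw [relIndex_bot_left, relIndex_bot_left, hcard, mul_comm 2] at h
      exact Nat.eq_of_mul_eq_mul_left Nat.card_pos h
    by_cases hxA : x ∈ A
    · exact Or.inl hxA
    · exact Or.inr (mem_subgroupOf.1 ((mul_mem_iff_of_index_two h2 (a := (⟨z, hz⟩ : ↥B)⁻¹) (b := ⟨x, hx⟩)).2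
        (iff_of_false (fun h => hzA (mem_subgroupOf.1 (inv_mem_iff.1 h))) fun h => hxA (mem_subgroupOf.1 h))))
  have mem1 : ∀ x ∈ Z 1, x = 1 ∨ x = z₁ := fun x hx => by
    rcases idx2 (bot_le : (⊥ : Subgroup T) ≤ Z 1) (by rw [card_bot, c1]) z₁ hz₁ (fun h => hz₁n (mem_bot.1 h)) x hx with h | h
    · exact Or.inl (mem_bot.1 h)
    · exact Or.inr (inv_mul_eq_one.1 (mem_bot.1 h)).symm
  have mem2 : ∀ x ∈ Z 2, x ∈ ({1, z₁, z₂, z₁ * z₂} : Set T) := fun x hx => by
    rcases idx2 m12 (by omega) z₂ hz₂ hz₂n x hx with h | h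
    · rcases mem1 x h with rfl | rfl <;> simp
    · rcases mem1 _ h with e | e
      · rw [inv_mul_eq_one] at e; subst e; simp
      · rw [inv_mul_eq_iff_eq_mul] at e
        have hcz : z₂ * z₁ = z₁ * z₂ := by
          have := mem_center_iff.1 (show z₁ ∈ center T by rw [← Subgroup.upperCentralSeries_one]; exact hz₁) z₂
          exact this
        rw [e, hcz]; simp
  have hgen3 : Z 3 ≤ closure {z₁, z₂, z₃} := by
    have hcl1 : Z 2 ≤ closure {z₁, z₂, z₃} := fun x hx => by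
      have g1 : z₁ ∈ closure ({z₁, z₂, z₃} : Set T) := subset_closure (by simp)
      have g2 : z₂ ∈ closure ({z₁, z₂, z₃} : Set T) := subset_closure (by simp)
      rcases mem2 x hx with rfl | rfl | rfl | rfl
      · exact one_mem _
      · exact g1
      · exact g2
      · exact mul_mem g1 g2
    intro x hx
    rcases idx2 m23 (by omega) z₃ hz₃ hz₃n x hx with h | h
    · exact hcl1 h
    · have := mul_mem (subset_closure (show z₃ ∈ ({z₁, z₂, z₃} : Set T) by simp)) (hcl1 h)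
      rwa [mul_inv_cancel_left] at this
  have hz1c : ∀ t : T, t * z₁ = z₁ * t := fun t =>
    mem_center_iff.1 (show z₁ ∈ center T by rw [← Subgroup.upperCentralSeries_one]; exact hz₁) t
  -- the action on the third term
  have hsame : ∀ t t' : T, t * z₂ * t⁻¹ = t' * z₂ * t'⁻¹ → t * z₃ * t⁻¹ = t' * z₃ * t'⁻¹ → t⁻¹ * t' ∈ W := by
    intro t t' e2 e3
    rw [hW]
    have : Z 3 ≤ centralizer ({t⁻¹ * t'} : Set T) := by
      refine hgen3.trans ((closure_le _).2 ?_)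
      have hone : ∀ z : T, t * z * t⁻¹ = t' * z * t'⁻¹ → z ∈ centralizer ({t⁻¹ * t'} : Set T) := fun z e => by
        refine mem_centralizer_singleton_iff.2 ?_
        calc z * (t⁻¹ * t') = t⁻¹ * (t * z * t⁻¹) * t' := by group
          _ = t⁻¹ * (t' * z * t'⁻¹) * t' := by rw [e]
          _ = t⁻¹ * t' * z := by group
      rintro z (rfl | rfl | rfl)
      · exact hone _ (by rw [hz1c, hz1c, mul_inv_cancel_right, mul_inv_cancel_right])
      · exact hone _ e2
      · exact hone _ e3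
    exact mem_centralizer_iff.2 fun z hz => mem_centralizer_singleton_iff.1 (this hz)
  let f : T ⧸ W → ↥(Z 1) × ↥(Z 2) := fun q =>
    (⟨q.out * z₂ * q.out⁻¹ * z₂⁻¹, hcomm 1 z₂ hz₂ _⟩, ⟨q.out * z₃ * q.out⁻¹ * z₃⁻¹, hcomm 2 z₃ hz₃ _⟩)
  have hfi : Function.Injective f := fun q q' e => by
    rw [Prod.ext_iff] at e
    rw [← QuotientGroup.out_eq' q, ← QuotientGroup.out_eq' q', QuotientGroup.eq]
    exact hsame _ _ (mul_right_cancel (congrArg Subtype.val e.1)) (mul_right_cancel (congrArg Subtype.val e.2))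
  have hi8 : W.index ≤ 8 := by
    have := Nat.card_le_card_of_injective f hfi
    rw [Nat.card_prod, c1, c2] at this
    exact this
  -- the subgroup generated by the squares of `W`
  set D := sq W with hD
  have hDle : D ≤ (frattini ↥W).map W.subtype := sq_le_frattini (hT.to_subgroup W)
  have hD8 : Nat.card D ≤ 8 := (card_le_of_le hDle).trans (by rw [card_map_of_injective W.subtype_injective]; exact hc)
  have hidx : ∀ U : Subgroup T, U ≤ W → U.relIndex W ≤ 16 → D ≤ U := fun U hU hi x hx => by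
    obtain ⟨y, hy, rfl⟩ := hDle hx
    exact mem_subgroupOf.1 (hd (U.subgroupOf W) hi hy)
  have Normal.map_conj_eq : ∀ g : T, W.map (MulAut.conj g).toMonoidHom = W := fun g => by
    ext x
    exact mem_cj.trans ⟨fun h => by
      have := hWn.conj_mem _ h g
      rwa [show g * (g⁻¹ * x * g) * g⁻¹ = x by group] at this, fun h => by
      have := hWn.conj_mem _ h g⁻¹
      rwa [inv_inv] at this⟩
  haveI hDn : D.Normal := ⟨fun d hd g => by
    have hWg : W.map (MulAut.conj g).toMonoidHom = W := Normal.map_conj_eq g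
    have : (D.map (MulAut.conj g).toMonoidHom) = D := by
      rw [hD, map_sq, hWg]
    rw [← this]; exact ⟨d, hd, by simp⟩⟩
  obtain ⟨k, hk⟩ := IsPGroup.iff_card.1 (hT.to_subgroup D)
  have hk3 : k ≤ 3 := (Nat.pow_le_pow_iff_right one_lt_two).1 (hk ▸ hD8 : 2 ^ k ≤ 2 ^ 3)
  have hDZk : D ≤ Z k := le_upperCentralSeries_of_card hT (le_of_eq hk)
  have hck : ∀ i, i ≤ 4 → Nat.card (Z i) = 2 ^ i := by
    intro i hi; interval_cases i <;> norm_num [c0, c1, c2, c3, g4]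
  have hTcard : Nat.card T = Nat.card W * W.index := W.card_mul_index.symm
  have hWbig : ¬ W ≤ D := fun h => by
    have := card_le_of_le h
    nlinarith
  obtain ⟨v, hvW, hvD, hvf⟩ := exists_fix hWbig
  have hvf' : ∀ t : T, t * v * t⁻¹ * v⁻¹ ∈ D := fun t => by
    rw [show t * v * t⁻¹ * v⁻¹ = (v * t * v⁻¹ * t⁻¹)⁻¹ by group]; exact inv_mem (hvf t)
  have hvuniq : ∀ w : T, (∀ t : T, w * t * w⁻¹ * t⁻¹ ∈ D) → w ∈ D ∨ v⁻¹ * w ∈ D := by
    intro w hw
    have hmem : ∀ x : T, (∀ t : T, x * t * x⁻¹ * t⁻¹ ∈ D) → x ∈ Z (k + 1) := fun x hx =>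
      Subgroup.mem_upperCentralSeries_succ_iff.2 fun t => by rw [commutatorElement_def]; exact hDZk (hx t)
    have hDk : D = Z k := eq_of_le_of_card_ge hDZk (by rw [hk, hck k (by omega)])
    refine idx2 (by rw [hDk]; exact Subgroup.upperCentralSeries_mono T (by omega)) ?_ v (hmem v hvf) hvD w (hmem w hw)
    rw [hck (k + 1) (by omega), hk, pow_succ, mul_comm]
  have hfixN : ∀ N : Subgroup T, N.Normal → ¬ N ≤ D → D ≤ N → v ∈ N := by
    intro N hN hne hDN
    obtain ⟨n, hn, hnD, hnf⟩ := exists_fix hne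
    rcases hvuniq n hnf with h | h
    · exact absurd h hnD
    · have := mul_mem hn (inv_mem (hDN h))
      rwa [mul_inv_rev, inv_inv, mul_inv_cancel_left] at this
  -- the bound on `W` modulo its squares
  obtain ⟨M₀, hDM, hM₀W, hvM, hM2⟩ := exists_avoid (U := W) (N := D) sq_le (fun x hx => mem_sq hx) hvW hvD
  let F : T ⧸ W → Subgroup T := fun q => M₀.map (MulAut.conj q.out).toMonoidHom
  have hFW : ∀ q, F q ≤ W ∧ (F q).relIndex W = 2 ∧ D ≤ F q := fun q => by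
    have hWq : W.map (MulAut.conj q.out).toMonoidHom = W := Normal.map_conj_eq _
    refine ⟨(map_mono hM₀W).trans hWq.le, ?_, fun d hd => mem_cj.2 (hDM ?_)⟩
    · show (M₀.map (MulAut.conj q.out).toMonoidHom).relIndex W = 2
      refine (congrArg (fun V => (M₀.map (MulAut.conj q.out).toMonoidHom).relIndex V) hWq.symm).trans ?_
      show (M₀.map (MulAut.conj q.out).toMonoidHom).relIndex (W.map (MulAut.conj q.out).toMonoidHom) = 2
      rw [relIndex_map_map_of_injective _ _ (MulAut.conj q.out).injective, hM2]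
    · have := hDn.conj_mem d hd q.out⁻¹
      rwa [inv_inv] at this
  set N₀ := (⨅ q, F q) ⊓ W with hN₀
  haveI hN₀n : N₀.Normal := by
    refine ⟨fun n hn g => mem_inf.2 ⟨mem_iInf.2 fun q => mem_cj.2 ?_, hWn.conj_mem n (mem_inf.1 hn).2 g⟩⟩
    set q' : T ⧸ W := QuotientGroup.mk (g⁻¹ * q.out)
    have h := mem_cj.1 (mem_iInf.1 (mem_inf.1 hn).1 q')
    obtain ⟨w, hw, hqw⟩ : ∃ w ∈ W, g⁻¹ * q.out = q'.out * w :=
      ⟨q'.out⁻¹ * (g⁻¹ * q.out), QuotientGroup.eq.1 (QuotientGroup.out_eq' q'), by group⟩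
    have hmn : ∀ m ∈ M₀, w⁻¹ * m * w ∈ M₀ := fun m hm => by
      have hh : w⁻¹ * m * w * m⁻¹ ∈ M₀ := hDM (by
        have hcm := comm_mem_sq (inv_mem hw) (hM₀W hm)
        rwa [commutatorElement_def, inv_inv] at hcm)
      have := mul_mem hh hm
      rwa [inv_mul_cancel_right] at this
    rw [show q.out⁻¹ * (g * n * g⁻¹) * q.out = (g⁻¹ * q.out)⁻¹ * n * (g⁻¹ * q.out) by group, hqw,
      show (q'.out * w)⁻¹ * n * (q'.out * w) = w⁻¹ * (q'.out⁻¹ * n * q'.out) * w by group]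
    exact hmn _ h
  have hN₀D : N₀ ≤ D := by
    by_contra hne
    have hv := hfixN N₀ hN₀n hne (le_inf (le_iInf fun q => (hFW q).2.2) sq_le)
    have h := mem_cj.1 (mem_iInf.1 (mem_inf.1 hv).1 (QuotientGroup.mk (1 : T)))
    set t := (QuotientGroup.mk (1 : T) : T ⧸ W).out with ht
    refine hvM ?_
    have hd' : t⁻¹ * v * t * v⁻¹ ∈ M₀ := hDM (by have := hvf' t⁻¹; rwa [inv_inv] at this)
    have := mul_mem (inv_mem hd') h
    rwa [show (t⁻¹ * v * t * v⁻¹)⁻¹ * (t⁻¹ * v * t) = v by group] at this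
  have hV : D.relIndex W ≤ 2 ^ 8 := by
    haveI : Fintype (T ⧸ W) := Fintype.ofFinite _
    have h1 : D.relIndex W ≤ N₀.relIndex W :=
      Nat.le_of_dvd (Nat.pos_of_ne_zero Subgroup.index_ne_zero_of_finite) (relIndex_dvd_of_le_left W hN₀D)
    have h2 : N₀.relIndex W = (⨅ q, F q).relIndex W := by rw [hN₀, inf_relIndex_right]
    have h3 : (⨅ q, F q).relIndex W ≤ ∏ q, (F q).relIndex W := relIndex_iInf_le F
    rw [Finset.prod_congr rfl fun q _ => (hFW q).2.1, Finset.prod_const, Finset.card_univ,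
      ← Nat.card_eq_fintype_card] at h3
    have h4 : 2 ^ Nat.card (T ⧸ W) ≤ 2 ^ 8 := Nat.pow_le_pow_right two_pos hi8
    omega
  have hWcard : Nat.card W = Nat.card D * D.relIndex W := by
    have h := relIndex_mul_relIndex ⊥ D W bot_le sq_le
    rw [relIndex_bot_left, relIndex_bot_left] at h
    exact h.symm
  have e8 : Nat.card D = 8 ∧ W.index = 8 ∧ D.relIndex W = 2 ^ 8 := by
    have h1 : 2 ^ 14 ≤ Nat.card D * D.relIndex W * W.index := by rw [← hWcard, ← hTcard]; exact ha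
    have h2 : Nat.card D * D.relIndex W ≤ 8 * 2 ^ 8 := Nat.mul_le_mul hD8 hV
    refine ⟨?_, ?_, ?_⟩
    · by_contra hne
      have : Nat.card D * D.relIndex W * W.index ≤ 7 * 2 ^ 8 * 8 :=
        Nat.mul_le_mul (Nat.mul_le_mul (by omega) hV) hi8
      omega
    · by_contra hne
      have : Nat.card D * D.relIndex W * W.index ≤ 8 * 2 ^ 8 * 7 := Nat.mul_le_mul h2 (by omega)
      omega
    · by_contra hne
      have : Nat.card D * D.relIndex W * W.index ≤ 8 * (2 ^ 8 - 1) * 8 :=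
        Nat.mul_le_mul (Nat.mul_le_mul hD8 (by omega)) hi8
      omega
  obtain ⟨eD, eI, eV⟩ := e8
  have hD3 : D = Z 3 := eq_of_le_of_card_ge
    (hDZk.trans (Subgroup.upperCentralSeries_mono T hk3)) (by rw [eD, c3])
  have hcen : ∀ w ∈ W, ∀ d ∈ D, w * d = d * w := fun w hw d hd => by
    rw [hD3] at hd
    rw [hW] at hw
    exact (mem_centralizer_iff.1 hw d hd).symm
  have hCle : ⁅W, W⁆ ≤ D := commutator_le.2 fun x hx y hy => comm_mem_sq hx hy
  -- squaring is a homomorphism modulo any subgroup over the commutators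
  have hcommW : ⁅W, W⁆ = D := by
    refine le_antisymm hCle fun d hd => ?_
    by_contra hdC
    -- a subgroup of index two in `D` over the commutators
    obtain ⟨D₀, hCD, hD₀, h2⟩ : ∃ D₀ : Subgroup T, ⁅W, W⁆ ≤ D₀ ∧ D₀ ≤ D ∧ D₀.relIndex D = 2 := by
      obtain ⟨M, hM, hCM⟩ := (eq_top_or_exists_le_coatom (⁅W, W⁆.subgroupOf D)).resolve_left fun h =>
        hdC (subgroupOf_eq_top.1 h hd)
      refine ⟨M.map D.subtype, fun x hx => ⟨⟨x, hCle hx⟩, hCM hx, rfl⟩, map_subtype_le M, ?_⟩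
      rw [relIndex, subgroupOf, comap_map_eq_self_of_injective D.subtype_injective]
      exact (Cfsg.Lib.PGroups.coatom_normal_index (hT.to_subgroup D) hM).2
    have hmul : ∀ x ∈ W, ∀ y ∈ W, x * y * (x * y) = (x * x) * (y * y) * ⁅y, x⁆ := by
      intro x hx y hy
      have hc1 : ⁅y, x⁆ ∈ D := comm_mem_sq hy hx
      calc x * y * (x * y) = x * (⁅y, x⁆ * x) * (y * y) := by simp only [commutatorElement_def]; group
        _ = (⁅y, x⁆ * x) * x * (y * y) := by rw [← mul_assoc x ⁅y, x⁆ x, hcen x hx _ hc1]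
        _ = ⁅y, x⁆ * ((x * x) * (y * y)) := by group
        _ = _ := (hcen _ (mul_mem (mul_mem hx hx) (mul_mem hy hy)) _ hc1).symm
    let K : Subgroup T :=
      { carrier := {x | x ∈ W ∧ x * x ∈ D₀}
        one_mem' := ⟨one_mem _, by rw [one_mul]; exact one_mem _⟩
        mul_mem' := fun {x y} hx hy => ⟨mul_mem hx.1 hy.1, by
          rw [hmul x hx.1 y hy.1]
          exact mul_mem (mul_mem hx.2 hy.2) (hCD (commutator_mem_commutator hy.1 hx.1))⟩
        inv_mem' := fun {x} hx => ⟨inv_mem hx.1, by rw [← mul_inv_rev]; exact inv_mem hx.2⟩ }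
    have hK : K.relIndex W ≤ 2 := by
      by_cases hWK : W ≤ K
      · rw [relIndex_eq_one.2 hWK]; omega
      obtain ⟨o, ho, hoK⟩ := SetLike.not_le_iff_exists.1 hWK
      refine le_of_eq ?_
      rw [relIndex, index_eq_two_iff']
      refine ⟨⟨o, ho⟩, fun b => ?_⟩
      simp only [mem_subgroupOf]
      show Xor (o * (b : T) ∈ K) ((b : T) ∈ K)
      by_cases hbK : (b : T) ∈ K
      · exact Or.inr ⟨hbK, fun h => hoK ((K.mul_mem_cancel_right hbK).1 h)⟩
      refine Or.inl ⟨⟨mul_mem ho b.2, ?_⟩, hbK⟩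
      rw [hmul o ho b b.2]
      refine mul_mem ?_ (hCD (commutator_mem_commutator b.2 ho))
      exact mem_subgroupOf.1 ((mul_mem_iff_of_index_two (H := D₀.subgroupOf D) h2
        (a := ⟨_, mem_sq ho⟩) (b := ⟨_, mem_sq b.2⟩)).2
          (iff_of_false (fun h => hoK ⟨ho, mem_subgroupOf.1 h⟩) fun h => hbK ⟨b.2, mem_subgroupOf.1 h⟩))
    have hle := le_sq_of_index hidx (U := K) (fun x hx => hx.1) (by omega)
    have hsqK : sq K ≤ D₀ := (closure_le _).2 fun y ⟨x, hx, e⟩ => e ▸ hx.2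
    rw [relIndex_eq_one.2 (hle.trans hsqK)] at h2
    omega
  have hexp : ∀ d ∈ D, d * d = 1 := by
    intro d hd
    rw [← hcommW] at hd
    suffices h : d ∈ D ∧ d * d = 1 from h.2
    rw [Subgroup.commutator_def] at hd
    induction hd using closure_induction with
    | mem x hx =>
      obtain ⟨p, hp, q, hq, rfl⟩ := hx
      have hxD : ⁅p, q⁆ ∈ D := comm_mem_sq hp hq
      refine ⟨hxD, ?_⟩
      have h1 : ⁅p * p, q⁆ = ⁅p, q⁆ * ⁅p, q⁆ := by
        calc ⁅p * p, q⁆ = p * ⁅p, q⁆ * p⁻¹ * ⁅p, q⁆ := by simp only [commutatorElement_def]; group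
          _ = _ := by rw [hcen p hp _ hxD, mul_inv_cancel_right]
      rw [← h1, commutatorElement_eq_one_iff_mul_comm]
      exact (hcen q hq _ (mem_sq hp)).symm
    | one => exact ⟨one_mem _, one_mul 1⟩
    | mul x y _ _ hx hy =>
      refine ⟨mul_mem hx.1 hy.1, ?_⟩
      calc x * y * (x * y) = x * (y * x) * y := by group
        _ = x * (x * y) * y := by rw [hcen y (sq_le hy.1) x hx.1]
        _ = (x * x) * (y * y) := by group
        _ = 1 := by rw [hx.2, hy.2, one_mul]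
    | inv x _ hx => exact ⟨inv_mem hx.1, by rw [← mul_inv_rev, hx.2, inv_one]⟩
  have hsurj : Function.Surjective f := by
    haveI : Fintype (T ⧸ W) := Fintype.ofFinite _
    exact ((Nat.bijective_iff_injective_and_card f).2 ⟨hfi, by
      rw [← Subgroup.index_eq_card, eI, Nat.card_prod, c1, c2]⟩).2
  have hall : ∀ e ∈ Z 1, ∀ e' ∈ Z 2, ∃ t : T, t * z₂ * t⁻¹ = e * z₂ ∧ t * z₃ * t⁻¹ = e' * z₃ := by
    intro e he e' he'
    obtain ⟨q, hq⟩ := hsurj (⟨e, he⟩, ⟨e', he'⟩)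
    rw [Prod.ext_iff] at hq
    exact ⟨q.out, mul_inv_eq_iff_eq_mul.1 (congrArg Subtype.val hq.1), mul_inv_eq_iff_eq_mul.1 (congrArg Subtype.val hq.2)⟩
  refine ⟨⟨le_top, fun p _ w hw => hWn.conj_mem w hw p, by rw [relIndex_top_right]; exact eI, by rw [hWcard, eD, eV]; norm_num,
    eD, hidx, hcommW, hcen, hexp, fun t _ ht => ?_, ⟨z₁, z₂, z₃, ?_⟩, ⟨v, hvW, hvD, fun t _ => hvf' t, ?_⟩⟩,
    by rw [hTcard, hWcard, eD, eV, eI]; norm_num⟩
  · rw [hW]
    exact mem_centralizer_iff.2 fun z hz => (ht z (by show z ∈ D; rw [hD3]; exact hz)).symm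
  · have hz1e : z₁ ∈ Z 1 := hz₁
    refine ⟨by show z₁ ∈ D; rw [hD3]; exact m23 (m12 hz₁), by show z₂ ∈ D; rw [hD3]; exact m23 hz₂,
      by show z₃ ∈ D; rw [hD3]; exact hz₃, hz₁n, fun e => hz₂n (e ▸ one_mem _), fun e => hz₂n (e ▸ hz₁),
      by show D ≤ _; rw [hD3]; exact hgen3, fun t _ => hz1c t, ?_, ?_, ?_, ?_, ?_, ?_⟩
    · intro e he e' he'
      obtain ⟨t, ht⟩ := hall e (by rcases he with rfl | rfl <;> first | exact one_mem _ | assumption) e' (by
        rcases he' with rfl | rfl | rfl | rfl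
        · exact one_mem _
        · exact m12 hz₁
        · exact hz₂
        · exact mul_mem (m12 hz₁) hz₂)
      exact ⟨t, mem_top t, ht⟩
    · intro d _ hc
      refine mem1 d ?_
      rw [hZ, Subgroup.upperCentralSeries_one, mem_center_iff]
      exact fun t => hc t (mem_top t)
    · intro d _ hc
      refine mem2 d (Subgroup.mem_upperCentralSeries_succ_iff.2 fun t => ?_)
      rw [show ⁅d, t⁆ = (t * d * t⁻¹ * d⁻¹)⁻¹ by rw [commutatorElement_def]; group]
      refine inv_mem ?_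
      rcases hc t (mem_top t) with e | e <;> rw [e] <;> first | exact one_mem _ | exact hz₁
    · intro t _
      exact mem1 _ (hcomm 1 z₂ hz₂ t)
    · intro h
      apply hz₃n
      rcases h with e | e | e | e <;> rw [e]
      · exact one_mem _
      · exact m12 hz₁
      · exact hz₂
      · exact mul_mem (m12 hz₁) hz₂
    · intro d hd
      have hd3 : d ∈ Z 3 := by rw [← hD3]; exact hd
      rcases idx2 m23 (by omega) z₃ hz₃ hz₃n d hd3 with h | h
      · exact Or.inl (mem2 d h)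
      · exact Or.inr (mem2 _ h)
  · intro N hN hDN hne hnorm
    exact hfixN N ⟨fun n hn t => hnorm t (mem_top t) n hn⟩ hne hDN

end Cfsg.Lib.RuSylow
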