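import Cfsg.Agent.RuSylow.Odd
import Cfsg.Agent.RuSylow.Setup
import Cfsg.Agent.Components.Cores
import Cfsg.Agent.Transfer.Basic
import Cfsg.Prelude.Def_CaseTheorems

/-!
The normaliser of `sq W` and the normaliser of `W`.
-/

set_option autoImplicit false
set_option linter.style.haveILetI false
set_option linter.unusedSectionVars false

namespace Cfsg.Lib.RuSylow

open Subgroup
open scoped commutatorElement

universe u

variable {G : Type u} [Group G] [Finite G]

/-- Burnside, in the form used here. -/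
theorem exists_normal_odd_complement {H : Type*} [Group H] [Finite H] (P : Sylow 2 H)
    (hP : normalizer ((P : Subgroup H) : Set H) ≤ centralizer ((P : Subgroup H) : Set H)) :
    ∃ K : Subgroup H, Odd (Nat.card K) ∧ ∀ x : H, Odd (orderOf x) → x ∈ K := by
  haveI : Fact (Nat.Prime 2) := ⟨Nat.prime_two⟩
  have hc := MonoidHom.ker_transferSylow_isComplement' P hP
  refine ⟨(MonoidHom.transferSylow P hP).ker, ?_, fun x hx => ?_⟩
  · rw [← hc.index_eq_card]
    exact Nat.odd_iff.2 (Nat.two_dvd_ne_zero.1 P.not_dvd_index)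
  · rw [MonoidHom.mem_ker]
    obtain ⟨i, hi⟩ := IsPGroup.iff_orderOf.1 P.2 (MonoidHom.transferSylow P hP x)
    exact orderOf_eq_one_iff.1 (Nat.eq_one_of_dvd_coprimes
      (Nat.Coprime.pow_left i (Nat.coprime_two_left.2 hx)) (dvd_of_eq hi) (orderOf_map_dvd _ x))

variable {S : Sylow 2 G} {W : Subgroup G}

theorem W_le_centralizer (h : Core (S : Subgroup G) W) :
    W ≤ centralizer ((sq W : Subgroup G) : Set G) :=
  fun w hw => mem_centralizer_iff.2 fun d hd => (h.central w hw d hd).symm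

theorem normalizer_le (W : Subgroup G) :
    normalizer ((W : Subgroup G) : Set G) ≤ normalizer ((sq W : Subgroup G) : Set G) := fun g hg =>
  mem_normalizer_iff_map_conj_eq.2 (by rw [map_sq, mem_normalizer_iff_map_conj_eq.1 hg])

/-- `W` as a Sylow subgroup of the centraliser of `sq W`. -/
theorem exists_sylow_centralizer (h : Core (S : Subgroup G) W) :
    ∃ P : Sylow 2 ↥(centralizer ((sq W : Subgroup G) : Set G)),
      (P : Subgroup ↥(centralizer ((sq W : Subgroup G) : Set G))) =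
        W.subgroupOf (centralizer ((sq W : Subgroup G) : Set G)) := by
  haveI : Fact (Nat.Prime 2) := ⟨Nat.prime_two⟩
  set D := sq W with hD
  set C := centralizer (D : Set G) with hC
  set M := normalizer (D : Set G) with hM
  have hSM : (S : Subgroup G) ≤ M := sylow_le_normalizer h
  have hCM : C ≤ M := centralizer_le_normalizer _
  have hp : IsPGroup 2 (W.subgroupOf C) :=
    (S.2.to_le h.le).of_equiv (subgroupOfEquivOfLe (W_le_centralizer h)).symm
  haveI : (C.subgroupOf M).Normal := ⟨fun c hc m => by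
    refine mem_subgroupOf.2 (mem_centralizer_iff.2 fun d hd => ?_)
    have hd' : (m : G)⁻¹ * d * m ∈ D := by
      have := (mem_normalizer_iff.1 (inv_mem m.2) d).1 hd
      rwa [inv_inv] at this
    show d * ((m : G) * (c : G) * (m : G)⁻¹) = (m : G) * c * (m : G)⁻¹ * d
    calc d * ((m : G) * (c : G) * (m : G)⁻¹) = m * (((m : G)⁻¹ * d * m) * c) * (m : G)⁻¹ := by group
      _ = m * ((c : G) * ((m : G)⁻¹ * d * m)) * (m : G)⁻¹ := by
        rw [mem_centralizer_iff.1 (mem_subgroupOf.1 hc) _ hd']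
      _ = _ := by group⟩
  have hidx : ¬ 2 ∣ (W.subgroupOf C).index := by
    have h1 : ((S : Subgroup G) ⊓ C) = W := le_antisymm
      (fun x hx => h.faithful x hx.1 fun d hd => (mem_centralizer_iff.1 hx.2 d hd).symm)
      (le_inf h.le (W_le_centralizer h))
    have h2 : ((S : Subgroup G).subgroupOf M).relIndex (C.subgroupOf M) = (W.subgroupOf C).index := by
      rw [relIndex_subgroupOf hCM, ← inf_relIndex_right, h1, relIndex]
    intro e
    rw [← h2] at e
    exact (S.subtype hSM).not_dvd_index (e.trans (by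
      rw [Sylow.coe_subtype]
      exact Cfsg.Lib.Components.relIndex_dvd_index_of_normal_right _ _))
  exact ⟨hp.toSylow hidx, rfl⟩

/-- Frattini argument. -/
theorem exists_normalizer (h : Core (S : Subgroup G) W) (g : G)
    (hg : g ∈ normalizer ((sq W : Subgroup G) : Set G)) :
    ∃ n ∈ normalizer ((W : Subgroup G) : Set G), n⁻¹ * g ∈ centralizer ((sq W : Subgroup G) : Set G) := by
  haveI : Fact (Nat.Prime 2) := ⟨Nat.prime_two⟩
  set D := sq W with hD
  set C := centralizer (D : Set G) with hC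
  obtain ⟨P, hP⟩ : ∃ P : Sylow 2 ↥C, (P : Subgroup ↥C) = W.subgroupOf C := exists_sylow_centralizer h
  set V := W.map (MulAut.conj g).toMonoidHom with hV
  have hVD : sq V = D := by rw [hV, ← map_sq]; exact mem_normalizer_iff_map_conj_eq.1 hg
  have hVC : V ≤ C := by
    rintro _ ⟨w, hw, rfl⟩
    refine mem_centralizer_iff.2 fun d hd => ?_
    obtain ⟨d', hd', rfl⟩ := ((mem_normalizer_iff_map_conj_eq.1 hg).symm ▸ hd :
      d ∈ D.map (MulAut.conj g).toMonoidHom)
    change MulAut.conj g d' * MulAut.conj g w = MulAut.conj g w * MulAut.conj g d'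
    rw [← map_mul, ← map_mul, h.central w hw d' hd']
  have hVp : IsPGroup 2 (V.subgroupOf C) :=
    ((S.2.to_le h.le).map _).of_equiv (subgroupOfEquivOfLe hVC).symm
  obtain ⟨Q, hQ⟩ := hVp.exists_le_sylow
  obtain ⟨c, hc⟩ := MulAction.exists_smul_eq ↥C P Q
  have key : ∀ x ∈ W, ((c : G)⁻¹ * g) * x * ((c : G)⁻¹ * g)⁻¹ ∈ W := fun x hx => by
    have h1 : (⟨MulAut.conj g x, hVC (mem_map_of_mem _ hx)⟩ : ↥C) ∈ (Q : Subgroup ↥C) :=
      hQ (mem_subgroupOf.2 (mem_map_of_mem (MulAut.conj g).toMonoidHom hx))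
    rw [← hc, Sylow.coe_subgroup_smul, Subgroup.mem_pointwise_smul_iff_inv_smul_mem, hP] at h1
    have h2 : (c : G)⁻¹ * (MulAut.conj g x) * c ∈ W := by
      simpa [MulAut.smul_def, mem_subgroupOf] using h1
    simpa [mul_assoc] using h2
  have hle : W.map (MulAut.conj ((c : G)⁻¹ * g)).toMonoidHom ≤ W := by
    rintro _ ⟨x, hx, rfl⟩; exact key x hx
  refine ⟨(c : G)⁻¹ * g, mem_normalizer_iff_map_conj_eq.2 (eq_of_le_of_card_ge hle
    (le_of_eq (card_map_of_injective (MulAut.conj ((c : G)⁻¹ * g)).injective).symm)), ?_⟩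
  refine mem_centralizer_iff.2 fun d hd => ?_
  obtain ⟨d', hd', e⟩ : ∃ d' ∈ D, g * d * g⁻¹ = d' := ⟨_, (mem_normalizer_iff.1 hg d).1 hd, rfl⟩
  have hcd := mem_centralizer_iff.1 c.2 d' hd'
  calc d * (((c : G)⁻¹ * g)⁻¹ * g) = g⁻¹ * ((g * d * g⁻¹) * c) * g := by group
    _ = g⁻¹ * (c * (g * d * g⁻¹)) * g := by rw [e, hcd]
    _ = _ := by group

/-- The elements of odd order of the centraliser of `sq W` form a subgroup of odd order. -/
theorem exists_odd_part (h : Core (S : Subgroup G) W) (h2 : ∀ H : Subgroup G, H.index ≠ 2) :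
    ∃ K : Subgroup G, Odd (Nat.card K) ∧
      ∀ x, x ∈ K ↔ x ∈ centralizer ((sq W : Subgroup G) : Set G) ∧ Odd (orderOf x) := by
  haveI : Fact (Nat.Prime 2) := ⟨Nat.prime_two⟩
  set D := sq W with hD
  set C := centralizer (D : Set G) with hC
  obtain ⟨ρ, hρ, hρk⟩ : ∃ ρ : ↥(normalizer (D : Set G)) →* GL (Fin 3) (ZMod 2), Function.Surjective ρ ∧
      ∀ g, ρ g = 1 ↔ (g : G) ∈ C := act_surjective h h2
  obtain ⟨P, hP⟩ : ∃ P : Sylow 2 ↥C, (P : Subgroup ↥C) = W.subgroupOf C := exists_sylow_centralizer h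
  have hDC : D ≤ C := sq_le.trans (W_le_centralizer h)
  -- elements normalising `W` act trivially modulo `D`
  have hmod : ∀ k ∈ C, k ∈ normalizer ((W : Subgroup G) : Set G) → ∀ w ∈ W, k * w * k⁻¹ * w⁻¹ ∈ D := by
    intro k hkC hkN w hw
    obtain ⟨a, b, ha, hb, hab, ⟨i, hai⟩, hbo⟩ := Cfsg.Lib.Transfer.exists_pPart 2 k
    have hZC : zpowers k ≤ C ⊓ normalizer ((W : Subgroup G) : Set G) := zpowers_le.2 ⟨hkC, hkN⟩
    have haW : a ∈ W := by
      have hQp : IsPGroup 2 ((W ⊔ zpowers a : Subgroup G).subgroupOf C) := by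
        refine (IsPGroup.to_sup_of_normal_left' (S.2.to_le h.le) (IsPGroup.of_card (n := i) ?_) ?_).of_equiv
          (subgroupOfEquivOfLe (sup_le (W_le_centralizer h) (zpowers_le.2 (hZC ha).1))).symm
        · rw [Nat.card_zpowers, hai]
        · exact zpowers_le.2 (hZC ha).2
      have he := P.3 hQp (by rw [hP]; exact fun x hx => mem_subgroupOf.2 (mem_sup_left (mem_subgroupOf.1 hx)))
      rw [hP] at he
      have hm : (⟨a, (hZC ha).1⟩ : ↥C) ∈ (W ⊔ zpowers a : Subgroup G).subgroupOf C :=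
        mem_subgroupOf.2 (mem_sup_right (mem_zpowers a))
      rw [he] at hm
      exact mem_subgroupOf.1 hm
    have hbW := odd_centralizes h hρ hρk (fun g hg => exists_normalizer h g hg) (hZC hb).2 (hZC hb).1
      (Nat.coprime_two_right.1 hbo)
    have h3 : w * b = b * w := mem_centralizer_iff.1 hbW w hw
    rw [← hab, show a * b * w * (a * b)⁻¹ * w⁻¹ = a * (b * w) * b⁻¹ * a⁻¹ * w⁻¹ by group, ← h3,
      show a * (w * b) * b⁻¹ * a⁻¹ * w⁻¹ = ⁅a, w⁆ by rw [commutatorElement_def]; group]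
    exact comm_mem_sq haW hw
  -- modulo `D`
  haveI hDn : (D.subgroupOf C).Normal := ⟨fun d hd c => by
    refine mem_subgroupOf.2 ?_
    show (c : G) * (d : G) * (c : G)⁻¹ ∈ D
    rw [← mem_centralizer_iff.1 c.2 d (mem_subgroupOf.1 hd), mul_inv_cancel_right]
    exact mem_subgroupOf.1 hd⟩
  set π := QuotientGroup.mk' (D.subgroupOf C) with hπ
  have hπs : Function.Surjective π := QuotientGroup.mk'_surjective _
  obtain ⟨K₁, hK₁, hK₁m⟩ := exists_normal_odd_complement (P.mapSurjective hπs) (by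
    intro x hx
    obtain ⟨x, rfl⟩ := hπs x
    rw [Sylow.coe_mapSurjective, hP] at hx ⊢
    have hin : ∀ y : ↥C, π y ∈ (W.subgroupOf C).map π → (y : G) ∈ W := by
      rintro y ⟨w, hw, e⟩
      have h4 : (w : G)⁻¹ * y ∈ W := sq_le (mem_subgroupOf.1 (QuotientGroup.eq.1 e) :)
      simpa using mul_mem (mem_subgroupOf.1 hw) h4
    have key : ∀ w ∈ W, (x : G) * w * (x : G)⁻¹ ∈ W := fun w hw => by
      have h4 := (mem_normalizer_iff.1 hx (π ⟨w, W_le_centralizer h hw⟩)).1
        (mem_map_of_mem π (mem_subgroupOf.2 hw))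
      rw [← map_inv, ← map_mul, ← map_mul] at h4
      exact hin _ h4
    have hxN : (x : G) ∈ normalizer ((W : Subgroup G) : Set G) := by
      refine mem_normalizer_iff_map_conj_eq.2 (eq_of_le_of_card_ge ?_
        (le_of_eq (card_map_of_injective (MulAut.conj (x : G)).injective).symm))
      rintro _ ⟨w, hw, rfl⟩; exact key w hw
    refine mem_centralizer_iff.2 ?_
    rintro _ ⟨w, hw, rfl⟩
    rw [← map_mul, ← map_mul]
    refine (QuotientGroup.eq).2 (mem_subgroupOf.2 ?_)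
    have h5 := hmod _ (inv_mem x.2) (inv_mem hxN) _ (inv_mem (mem_subgroupOf.1 hw))
    show ((w : G) * x)⁻¹ * ((x : G) * w) ∈ D
    rwa [show ((w : G) * x)⁻¹ * ((x : G) * w) = (x : G)⁻¹ * (w : G)⁻¹ * (x : G)⁻¹⁻¹ * (w : G)⁻¹⁻¹ by group])
  -- the preimage
  set L := K₁.comap π with hL
  have hDL : D.subgroupOf C ≤ L := fun d hd => by
    rw [hL, mem_comap, show π d = 1 from (QuotientGroup.eq_one_iff d).2 hd]; exact one_mem _
  have hLi : ¬ 2 ∣ ((D.subgroupOf C).subgroupOf L).index := by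
    show ¬ 2 ∣ (D.subgroupOf C).relIndex L
    have : (D.subgroupOf C).relIndex L = Nat.card K₁ := by
      have hk : D.subgroupOf C = (⊥ : Subgroup (↥C ⧸ D.subgroupOf C)).comap π := by
        rw [MonoidHom.comap_bot, hπ, QuotientGroup.ker_mk']
      refine (congrArg (fun U => U.relIndex L) hk).trans ?_
      rw [relIndex_comap, hL, map_comap_eq_self_of_surjective hπs, relIndex_bot_left]
    rw [this]; exact hK₁.not_two_dvd_nat
  have hDp : IsPGroup 2 ((D.subgroupOf C).subgroupOf L) :=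
    ((S.2.to_le (sq_le.trans h.le)).of_equiv (subgroupOfEquivOfLe hDC).symm).of_equiv
      (subgroupOfEquivOfLe hDL).symm
  obtain ⟨K₂, hK₂, hK₂m⟩ := exists_normal_odd_complement (hDp.toSylow hLi) (by
    intro x _
    refine mem_centralizer_iff.2 fun d hd => Subtype.ext (Subtype.ext ?_)
    exact mem_centralizer_iff.1 (x : ↥C).2 _ (mem_subgroupOf.1 (mem_subgroupOf.1 hd)))
  refine ⟨(K₂.map L.subtype).map C.subtype, ?_, fun x => ⟨?_, fun ⟨hx, hxo⟩ => ?_⟩⟩
  · rwa [card_map_of_injective C.subtype_injective, card_map_of_injective L.subtype_injective]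
  · rintro ⟨y, ⟨z, hz, rfl⟩, rfl⟩
    refine ⟨(z : ↥C).2, hK₂.of_dvd_nat ?_⟩
    show orderOf ((z : ↥C) : G) ∣ _
    rw [orderOf_coe, orderOf_coe]
    exact Subgroup.orderOf_dvd_natCard _ hz
  · have h6 : (⟨x, hx⟩ : ↥C) ∈ L :=
      hK₁m _ (hxo.of_dvd_nat ((orderOf_map_dvd π _).trans (dvd_of_eq (orderOf_mk x hx))))
    refine ⟨⟨x, hx⟩, ⟨⟨⟨x, hx⟩, h6⟩, hK₂m _ ?_, rfl⟩, rfl⟩
    rwa [orderOf_mk, orderOf_mk]

/-- The statement of both parts. -/
theorem main (h : Core (S : Subgroup G) W) (h2 : ∀ H : Subgroup G, H.index ≠ 2) (N M : Subgroup G)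
    (hN : N = normalizer ((W : Subgroup G) : Set G)) (hM : M = normalizer ((sq W : Subgroup G) : Set G)) :
    (N.subgroupOf M ⊔ Cfsg.oddCore ↥M = ⊤) ∧
      ∃ (_ : (W.subgroupOf N ⊔ Cfsg.oddCore ↥N).Normal),
        Nonempty (↥N ⧸ (W.subgroupOf N ⊔ Cfsg.oddCore ↥N) ≃* GL (Fin 3) (ZMod 2)) := by
  subst hN hM
  haveI : Fact (Nat.Prime 2) := ⟨Nat.prime_two⟩
  set D := sq W with hD
  set C := centralizer (D : Set G) with hC
  set M := normalizer (D : Set G) with hM
  set N := normalizer ((W : Subgroup G) : Set G) with hN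
  obtain ⟨ρ, hρ, hρk⟩ : ∃ ρ : ↥M →* GL (Fin 3) (ZMod 2), Function.Surjective ρ ∧
      ∀ g, ρ g = 1 ↔ (g : G) ∈ C := act_surjective h h2
  obtain ⟨K, hK, hKm⟩ : ∃ K : Subgroup G, Odd (Nat.card K) ∧ ∀ x, x ∈ K ↔ x ∈ C ∧ Odd (orderOf x) :=
    exists_odd_part h h2
  obtain ⟨P, hP⟩ : ∃ P : Sylow 2 ↥C, (P : Subgroup ↥C) = W.subgroupOf C := exists_sylow_centralizer h
  have hNM : N ≤ M := normalizer_le W
  have hKconj : ∀ m ∈ M, ∀ x ∈ K, m * x * m⁻¹ ∈ K := by
    intro m hm x hx
    obtain ⟨hxC, hxo⟩ := (hKm x).1 hx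
    refine (hKm _).2 ⟨mem_centralizer_iff.2 fun d hd => ?_, ?_⟩
    · have hd' : m⁻¹ * d * m ∈ D := by
        have := (mem_normalizer_iff.1 (inv_mem hm) d).1 hd
        rwa [inv_inv] at this
      calc d * (m * x * m⁻¹) = m * ((m⁻¹ * d * m) * x) * m⁻¹ := by group
        _ = m * (x * (m⁻¹ * d * m)) * m⁻¹ := by rw [mem_centralizer_iff.1 hxC _ hd']
        _ = _ := by group
    · rw [← MulAut.conj_apply, MulEquiv.orderOf_eq]; exact hxo
  -- `C = W K`
  have hWK : ∀ c ∈ C, ∃ w ∈ W, ∃ k ∈ K, w * k = c := by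
    intro c hc
    haveI hKn : (K.subgroupOf C).Normal := ⟨fun k hk y => mem_subgroupOf.2
      (hKconj y (centralizer_le_normalizer _ y.2) k (mem_subgroupOf.1 hk))⟩
    have htop : W.subgroupOf C ⊔ K.subgroupOf C = ⊤ := by
      have hq : IsPGroup 2 (↥C ⧸ K.subgroupOf C) := fun q => by
        obtain ⟨y, rfl⟩ := QuotientGroup.mk'_surjective _ q
        obtain ⟨a, b, -, -, hab, ⟨i, hai⟩, hbo⟩ := Cfsg.Lib.Transfer.exists_pPart 2 y
        refine ⟨i, ?_⟩
        have hb : QuotientGroup.mk' (K.subgroupOf C) b = 1 := (QuotientGroup.eq_one_iff b).2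
          (mem_subgroupOf.2 ((hKm _).2 ⟨b.2, by rw [orderOf_coe]; exact Nat.coprime_two_right.1 hbo⟩))
        rw [← hab, map_mul, hb, mul_one, ← map_pow, ← hai, pow_orderOf_eq_one, map_one]
      obtain ⟨j, hj⟩ := IsPGroup.iff_card.1 hq
      rw [← index_eq_one]
      refine Nat.eq_one_of_dvd_coprimes (Nat.Coprime.pow_left j
        ((Nat.prime_two.coprime_iff_not_dvd).2 (hP ▸ P.not_dvd_index : ¬ 2 ∣ (W.subgroupOf C).index)))
        ?_ (index_dvd_of_le le_sup_left)
      rw [← hj, ← Subgroup.index_eq_card]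
      exact index_dvd_of_le le_sup_right
    obtain ⟨w, hw, k, hk, e⟩ := mem_sup_of_normal_right.1 (htop ▸ mem_top (⟨c, hc⟩ : ↥C))
    exact ⟨w, mem_subgroupOf.1 hw, k, mem_subgroupOf.1 hk, congrArg Subtype.val e⟩
  have hCM : ∀ c ∈ C, c ∈ M := fun c hc => centralizer_le_normalizer _ hc
  refine ⟨?_, ?_⟩
  · -- the first part
    have hKle : K.subgroupOf M ≤ Cfsg.oddCore ↥M := by
      haveI : (K.subgroupOf M).Normal := ⟨fun k hk m => mem_subgroupOf.2 (hKconj m m.2 k (mem_subgroupOf.1 hk))⟩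
      refine Cfsg.Lib.Components.le_pPrimeCore (Nat.coprime_two_right.2 ?_)
      rwa [Nat.card_congr (subgroupOfEquivOfLe fun k hk => hCM k ((hKm k).1 hk).1).toEquiv]
    refine eq_top_iff.2 fun m _ => ?_
    obtain ⟨n, hn, hc⟩ := exists_normalizer h m m.2
    obtain ⟨w, hw, k, hk, e⟩ := hWK _ hc
    have hwN : w ∈ N := le_normalizer hw
    have hkM : k ∈ M := hCM k ((hKm k).1 hk).1
    have : m = (⟨n * w, hNM (mul_mem hn hwN)⟩ : ↥M) * ⟨k, hkM⟩ := Subtype.ext (by
      show (m : G) = n * w * k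
      rw [mul_assoc, e, mul_inv_cancel_left])
    rw [this]
    exact mul_mem (mem_sup_left (mem_subgroupOf.2 (mul_mem hn hwN))) (mem_sup_right (hKle (mem_subgroupOf.2 hk)))
  · -- the second part
    let ρN : ↥N →* GL (Fin 3) (ZMod 2) := ρ.comp (inclusion hNM)
    have hρN : Function.Surjective ρN := fun y => by
      obtain ⟨g, rfl⟩ := hρ y
      obtain ⟨n, hn, hc⟩ := exists_normalizer h g g.2
      refine ⟨⟨n, hn⟩, ?_⟩
      show ρ ⟨n, hNM hn⟩ = ρ g
      rw [← inv_mul_eq_one, ← map_inv, ← map_mul, hρk]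
      exact hc
    have hker : ρN.ker = W.subgroupOf N ⊔ Cfsg.oddCore ↥N := by
      refine le_antisymm ?_ (sup_le ?_ ?_)
      · intro x hx
        obtain ⟨w, hw, k, hk, e⟩ := hWK x ((hρk (inclusion hNM x)).1 (MonoidHom.mem_ker.1 hx))
        have hwN : w ∈ N := le_normalizer hw
        have hkN : k ∈ N := by
          rw [show k = w⁻¹ * x by rw [← e, inv_mul_cancel_left]]
          exact mul_mem (inv_mem hwN) x.2
        have hle : K.subgroupOf N ≤ Cfsg.oddCore ↥N := by
          haveI : (K.subgroupOf N).Normal :=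
            ⟨fun k hk m => mem_subgroupOf.2 (hKconj m (hNM m.2) k (mem_subgroupOf.1 hk))⟩
          refine Cfsg.Lib.Components.le_pPrimeCore (Nat.coprime_two_right.2 (hK.of_dvd_nat ?_))
          exact card_comap_dvd_of_injective K N.subtype N.subtype_injective
        rw [show x = (⟨w, hwN⟩ : ↥N) * ⟨k, hkN⟩ from Subtype.ext e.symm]
        exact mul_mem (mem_sup_left (mem_subgroupOf.2 hw)) (mem_sup_right (hle (mem_subgroupOf.2 hk)))
      · intro w hw
        exact MonoidHom.mem_ker.2 ((hρk _).2 (W_le_centralizer h (mem_subgroupOf.1 hw)))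
      · intro o ho
        refine MonoidHom.mem_ker.2 ((hρk _).2 (mem_centralizer_iff.2 fun d hd => ?_))
        have hWN : W ≤ N := le_normalizer
        haveI : (W.subgroupOf N).Normal := normal_subgroupOf_iff_le_normalizer hWN |>.2 le_rfl
        have hdisj : Disjoint (W.subgroupOf N) (Cfsg.oddCore ↥N) := by
          refine disjoint_of_coprime_natCard ?_
          rw [Nat.card_congr (subgroupOfEquivOfLe hWN).toEquiv, h.cardW]
          exact Nat.Coprime.pow_left _ (Nat.coprime_comm.1 (Cfsg.Lib.Components.coprime_card_pPrimeCore 2))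
        exact congrArg Subtype.val (commute_of_normal_of_disjoint _ _ inferInstance inferInstance hdisj
          (⟨d, hWN (sq_le hd)⟩ : ↥N) o (mem_subgroupOf.2 (sq_le hd)) ho).eq
    refine ⟨hker ▸ ρN.normal_ker, ?_⟩
    haveI : (W.subgroupOf N ⊔ Cfsg.oddCore ↥N).Normal := hker ▸ ρN.normal_ker
    exact ⟨(QuotientGroup.quotientMulEquivOfEq hker.symm).trans
      (QuotientGroup.quotientKerEquivOfSurjective ρN hρN)⟩

end Cfsg.Lib.RuSylow
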