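import Cfsg.Agent.RuSylow.Basic
import Cfsg.Agent.PGroups.AutOrder

/-!
Small facts: automorphism groups of small elementary abelian groups, the nonabelian groups of order eight, and a
fixed point criterion for an automorphism of odd order.
-/

set_option autoImplicit false
set_option linter.style.haveILetI false
set_option linter.unusedSectionVars false

namespace Cfsg.Lib.RuSylow

open Subgroup
open scoped commutatorElement

theorem card_mulAut_dvd {Q : Type*} [Group Q] [Finite Q] {p : ℕ} [Fact p.Prime] [IsMulCommutative Q]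
    (hexp : ∀ x : Q, x ^ p = 1) {r : ℕ} (hr : Nat.card Q = p ^ r) :
    Nat.card (MulAut Q) ∣ ∏ i ∈ Finset.range r, (p ^ r - p ^ i) := by
  rw [← Cfsg.Lib.PGroups.card_generating_tuples hexp hr]
  letI : MulAction (MulAut Q) {s : Fin r → Q // closure (Set.range s) = ⊤} :=
    { smul := fun α f => ⟨fun i => α (f.1 i), by
        show closure (Set.range (α ∘ f.1)) = ⊤
        rw [Set.range_comp]
        have h := MonoidHom.map_closure α.toMonoidHom (Set.range f.1)
        rw [f.2, Subgroup.map_top_of_surjective _ α.surjective] at h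
        exact h.symm⟩
      one_smul := fun f => rfl
      mul_smul := fun a b f => rfl }
  exact Cfsg.Lib.PGroups.card_dvd_of_free fun α f h =>
    Cfsg.Lib.PGroups.aut_eq_one_of_fixes f.2 α fun i => congrFun (congrArg Subtype.val h) i

/-- Two automorphisms of a cyclic group commute. -/
theorem aut_cyclic_comm {Q : Type*} [Group Q] [IsCyclic Q] (α β : MulAut Q) : α * β = β * α := by
  obtain ⟨g, hg⟩ := IsCyclic.exists_generator (α := Q)
  refine MulEquiv.ext fun x => ?_
  obtain ⟨k, rfl⟩ := mem_zpowers_iff.1 (hg x)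
  obtain ⟨m, hm⟩ := mem_zpowers_iff.1 (hg (α g))
  obtain ⟨n, hn⟩ := mem_zpowers_iff.1 (hg (β g))
  simp only [MulAut.mul_apply, map_zpow, ← hm, ← hn, ← zpow_mul, mul_comm m n]

/-- In rank at most two a dihedral pair of automorphisms has a central commutator. -/
theorem aut_rank_two {Q : Type*} [Group Q] [Finite Q] [IsMulCommutative Q] {r : ℕ} [Fact r.Prime] (hr : r ≠ 2)
    (hcard : Nat.card Q ∣ r ^ 2) (hexp : ∀ x : Q, x ^ r = 1) {α β γ : MulAut Q}
    (hab : α * β ≠ β * α) (hγ : γ * γ = 1) (hγ1 : γ ≠ 1) (hα : γ * α = α * γ) (hβ : γ * β = β * γ) :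
    ∀ δ : MulAut Q, γ * δ = δ * γ := by
  classical
  letI : CommGroup Q := { (inferInstance : Group Q) with mul_comm := mul_comm' }
  have hodd : ∀ x : Q, x * x = 1 → x = 1 := fun x hx => by
    have h2 : orderOf x ∣ 2 := orderOf_dvd_of_pow_eq_one (by rw [pow_two, hx])
    have hr' : orderOf x ∣ r := orderOf_dvd_of_pow_eq_one (hexp x)
    exact orderOf_eq_one_iff.1 (Nat.eq_one_of_dvd_coprimes
      ((Nat.coprime_primes (Fact.out : r.Prime) Nat.prime_two).2 hr) hr' h2)
  have hγγ : ∀ x, γ (γ x) = x := fun x => by rw [← MulAut.mul_apply, hγ]; rfl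
  let L : Subgroup Q := (MonoidHom.mk' (fun x => γ x * x⁻¹) fun x y => by
    simp only [map_mul, mul_inv_rev]; ac_rfl).ker
  let L' : Subgroup Q := (MonoidHom.mk' (fun x => γ x * x) fun x y => by
    simp only [map_mul, mul_inv_rev]; ac_rfl).ker
  have hL : ∀ x, x ∈ L ↔ γ x = x := fun x => by simp [L, MonoidHom.mem_ker, mul_inv_eq_one]
  have hL' : ∀ x, x ∈ L' ↔ γ x = x⁻¹ := fun x => by simp [L', MonoidHom.mem_ker, mul_eq_one_iff_eq_inv]
  by_cases hLbot : L = ⊥
  · intro δ
    refine MulEquiv.ext fun x => ?_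
    have hinv : ∀ y, γ y = y⁻¹ := fun y => by
      have hmem : y * γ y ∈ L := (hL _).2 (by rw [map_mul, hγγ, mul_comm])
      rw [hLbot, mem_bot] at hmem
      exact eq_inv_of_mul_eq_one_right hmem
    show γ (δ x) = δ (γ x)
    rw [hinv, hinv, map_inv]
  exfalso
  have hL'bot : L' ≠ ⊥ := fun h => hγ1 (MulEquiv.ext fun x => by
    have hmem : γ x * x⁻¹ ∈ L' := (hL' _).2 (by rw [map_mul, map_inv, hγγ, mul_inv_rev, inv_inv])
    rw [h, mem_bot, mul_inv_eq_one] at hmem
    exact hmem)
  have hdisj : L ⊓ L' = ⊥ := (eq_bot_iff_forall _).2 fun x hx => by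
    have e1 := (hL x).1 (mem_inf.1 hx).1
    have e2 := (hL' x).1 (mem_inf.1 hx).2
    exact hodd x (mul_eq_one_iff_eq_inv.2 (e1.symm.trans e2))
  have hjoin : L ⊔ L' = ⊤ := by
    refine eq_top_iff.2 fun x _ => ?_
    -- x ^ 2 is the product of a fixed and an inverted element
    have h2 : x * x ∈ L ⊔ L' := by
      have e : x * x = (x * γ x) * (x * (γ x)⁻¹) := by
        rw [mul_mul_mul_comm, mul_inv_cancel, mul_one]
      rw [e]
      exact mul_mem (mem_sup_left ((hL _).2 (by rw [map_mul, hγγ, mul_comm])))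
        (mem_sup_right ((hL' _).2 (by rw [map_mul, map_inv, hγγ, mul_inv_rev, inv_inv])))
    obtain ⟨k, hk⟩ : ∃ k, r = 2 * k + 1 := ((Fact.out : r.Prime).odd_of_ne_two hr)
    have : x = ((x * x) ^ k)⁻¹ := by
      refine eq_inv_of_mul_eq_one_left ?_
      have := hexp x
      rw [hk, pow_add, pow_mul, pow_two, pow_one] at this
      rwa [mul_comm] at this
    rw [this]
    exact inv_mem (pow_mem h2 k)
  have hcyc : ∀ {A B : Subgroup Q}, A ⊓ B = ⊥ → A ≠ ⊥ → B ≠ ⊥ → IsCyclic A := by
    intro A B hAB hA hB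
    have hd := Nat.dvd_trans (Subgroup.card_subgroup_dvd_card A) hcard
    obtain ⟨i, hi, hAi⟩ := (Nat.dvd_prime_pow (Fact.out : r.Prime)).1 hd
    interval_cases i
    · exact absurd (Subgroup.card_eq_one.1 (by rw [hAi, pow_zero])) hA
    · exact isCyclic_of_prime_card (p := r) (by rw [hAi, pow_one])
    · exfalso
      have hle := Nat.le_of_dvd (pow_pos (Fact.out : r.Prime).pos 2) hcard
      have hAt : A = ⊤ := eq_top_of_card_eq A (le_antisymm (card_le_card_group A) (hAi ▸ hle))
      rw [hAt, top_inf_eq] at hAB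
      exact hB hAB
  haveI hc1 := hcyc hdisj hLbot hL'bot
  haveI hc2 := hcyc (inf_comm L L' ▸ hdisj) hL'bot hLbot
  have hpres : ∀ δ : MulAut Q, γ * δ = δ * γ → (∀ x ∈ L, δ x ∈ L) ∧ ∀ x ∈ L', δ x ∈ L' := fun δ hδ => by
    have e : ∀ x, γ (δ x) = δ (γ x) := fun x => by rw [← MulAut.mul_apply, hδ]; rfl
    exact ⟨fun x hx => (hL _).2 (by rw [e, (hL x).1 hx]), fun x hx => (hL' _).2 (by rw [e, (hL' x).1 hx, map_inv])⟩
  have hres : ∀ (A : Subgroup Q) [IsCyclic A], (∀ x ∈ A, α x ∈ A) → (∀ x ∈ A, β x ∈ A) →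
      ∀ x ∈ A, α (β x) = β (α x) := by
    intro A _ ha hb x hx
    have hm : ∀ δ : MulAut Q, (∀ y ∈ A, δ y ∈ A) → A.map δ.toMonoidHom = A := fun δ hd =>
      eq_of_le_of_card_ge (by rintro _ ⟨y, hy, rfl⟩; exact hd y hy) (by rw [card_map_of_injective δ.injective])
    let res : (δ : MulAut Q) → (∀ y ∈ A, δ y ∈ A) → MulAut A := fun δ hd =>
      (δ.subgroupMap A).trans (MulEquiv.subgroupCongr (hm δ hd))
    exact congrArg Subtype.val (DFunLike.congr_fun (aut_cyclic_comm (res α ha) (res β hb)) ⟨x, hx⟩)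
  obtain ⟨pα, pα'⟩ := hpres α hα
  obtain ⟨pβ, pβ'⟩ := hpres β hβ
  refine hab (MulEquiv.ext fun x => ?_)
  have hle : (⊤ : Subgroup Q) ≤ MonoidHom.eqLocus (α * β).toMonoidHom (β * α).toMonoidHom :=
    hjoin ▸ sup_le (fun y hy => hres L pα pβ y hy) fun y hy => hres L' pα' pβ' y hy
  exact hle (mem_top x)

/-- The commutator data of a nonabelian group of order eight. -/
theorem order_eight {P : Type*} [Group P] [Finite P] (hP : Nat.card P = 8) (hna : ∃ x y : P, x * y ≠ y * x) :
    ∃ a b c : P, a * b ≠ b * a ∧ c * c = 1 ∧ c ≠ 1 ∧ c * a = a * c ∧ c * b = b * c := by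
  haveI : Fact (Nat.Prime 2) := ⟨Nat.prime_two⟩
  have hp : IsPGroup 2 P := IsPGroup.of_card (n := 3) (by rw [hP]; norm_num)
  obtain ⟨x, y, hxy⟩ := hna
  haveI : Nontrivial P := ⟨⟨x * y, y * x, hxy⟩⟩
  haveI := hp.center_nontrivial
  obtain ⟨k, hk⟩ := IsPGroup.iff_card.1 (hp.to_subgroup (center P))
  have hidx := (center P).card_mul_index
  rw [hP, hk] at hidx
  have hk1 : 1 ≤ k := by
    by_contra h
    have h0 : k = 0 := by omega
    rw [h0, pow_zero] at hk
    exact Finite.one_lt_card.ne' hk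
  have hk2 : k < 2 := by
    by_contra h
    have hi : (center P).index ≤ 2 := by
      have : 4 ≤ 2 ^ k := le_trans (by norm_num) (Nat.pow_le_pow_right two_pos (show 2 ≤ k by omega))
      nlinarith
    haveI : IsCyclic (P ⧸ center P) := by
      rcases Nat.lt_or_ge (center P).index 2 with h1 | h1
      · haveI : Subsingleton (P ⧸ center P) := Finite.card_le_one_iff_subsingleton.1 (by
          rw [← Subgroup.index_eq_card]; omega)
        infer_instance
      · exact isCyclic_of_prime_card (p := 2) (by rw [← Subgroup.index_eq_card]; omega)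
    exact hxy ((commutative_of_cyclic_center_quotient (QuotientGroup.mk' (center P)) (QuotientGroup.ker_mk' _).le x y))
  have hk' : k = 1 := by omega
  subst hk'
  have hsq : IsMulCommutative (P ⧸ center P) := IsPGroup.isMulCommutative_of_card_eq_prime_sq (p := 2) (by
    rw [← Subgroup.index_eq_card]; omega)
  have hcc : ⁅x, y⁆ ∈ center P := by
    rw [← QuotientGroup.eq_one_iff]
    show QuotientGroup.mk' (center P) ⁅x, y⁆ = 1
    rw [map_commutatorElement, commutatorElement_eq_one_iff_mul_comm]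
    exact hsq.is_comm.comm _ _
  refine ⟨x, y, ⁅x, y⁆, hxy, ?_, fun h => hxy (commutatorElement_eq_one_iff_mul_comm.1 h),
    (mem_center_iff.1 hcc x).symm, (mem_center_iff.1 hcc y).symm⟩
  have h2 : (⟨⁅x, y⁆, hcc⟩ : center P) ^ 2 = 1 := by
    rw [show (2 : ℕ) = Nat.card (center P) by rw [hk, pow_one]]
    exact pow_card_eq_one'
  rw [← pow_two]
  exact congrArg Subtype.val h2

/-- An automorphism of odd order commuting with a group of automorphisms whose nontrivial invariant subgroups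
share an involution is trivial. -/
theorem eq_one_of_common {V : Type*} [CommGroup V] [Finite V] (H : Set (MulAut V)) {v : V} (hv : v ≠ 1)
    (hv2 : v * v = 1) (hcommon : ∀ U : Subgroup V, U ≠ ⊥ → (∀ s ∈ H, ∀ u ∈ U, s u ∈ U) → v ∈ U)
    (hfix : ∀ s ∈ H, s v = v) {z : MulAut V} (hodd : Odd (orderOf z)) (hcomm : ∀ s ∈ H, s * z = z * s) : z = 1 := by
  classical
  have hzH : ∀ s ∈ H, ∀ x, s (z x) = z (s x) := fun s hs x => by rw [← MulAut.mul_apply, hcomm s hs]; rfl
  -- `z` fixes `v`
  have hzv : z v = v := by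
    have hne : z v ≠ 1 := fun e => hv (z.injective (e.trans (map_one z).symm))
    have h2 : z v * z v = 1 := by rw [← map_mul, hv2, map_one]
    have hz := hcommon (zpowers (z v)) (fun e => hne (zpowers_eq_bot.1 e)) fun s hs u hu => by
      obtain ⟨k, rfl⟩ := mem_zpowers_iff.1 hu
      rw [map_zpow, hzH s hs v, hfix s hs]
      exact zpow_mem (mem_zpowers _) k
    obtain ⟨k, hk⟩ := mem_zpowers_iff.1 hz
    rcases Int.even_or_odd k with ⟨j, rfl⟩ | ⟨j, rfl⟩
    · rw [zpow_add, ← mul_zpow, h2, one_zpow] at hk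
      exact absurd hk.symm hv
    · rw [zpow_add, zpow_one, two_mul, zpow_add, ← mul_zpow, h2, one_zpow, one_mul] at hk
      exact hk
  let δ : V →* V := MonoidHom.mk' (fun x => z x * x⁻¹) fun x y => by simp only [map_mul, mul_inv_rev]; ac_rfl
  by_contra hz1
  have hδ : δ.range ≠ ⊥ := fun e => hz1 (MulEquiv.ext fun x => by
    have hm : δ x ∈ δ.range := ⟨x, rfl⟩
    rw [e, mem_bot] at hm
    exact mul_inv_eq_one.1 hm)
  obtain ⟨x, hx⟩ := hcommon δ.range hδ fun s hs u hu => by
    obtain ⟨y, rfl⟩ := hu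
    exact ⟨s y, by show z (s y) * (s y)⁻¹ = s (z y * y⁻¹); rw [map_mul, map_inv, hzH s hs]⟩
  have hpow : ∀ i, (z ^ i) v = v := fun i => by
    induction i with
    | zero => rfl
    | succ i ih => rw [pow_succ, MulAut.mul_apply, hzv, ih]
  have htel : ∀ i, (z ^ i) x = x * v ^ i := fun i => by
    induction i with
    | zero => simp
    | succ i ih =>
      have hzx : z x = v * x := mul_inv_eq_iff_eq_mul.1 hx
      rw [pow_succ, MulAut.mul_apply, hzx, map_mul, hpow, ih, pow_succ]
      simp [mul_comm, mul_left_comm]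
  have := htel (orderOf z)
  rw [pow_orderOf_eq_one] at this
  have hvn : v ^ orderOf z = 1 := left_eq_mul.1 this
  obtain ⟨k, hk⟩ := hodd
  rw [hk, pow_add, pow_mul, pow_two, hv2, one_pow, one_mul, pow_one] at hvn
  exact hv hvn

end Cfsg.Lib.RuSylow
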