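import Cfsg.Agent.PGroups.AutOrder
import Cfsg.Agent.SolvStruct.AltEight.GLFour
import Cfsg.Agent.Classical.SL
import Mathlib.GroupTheory.Nilpotent
import Mathlib.GroupTheory.Transfer

/-!
General facts for the local analysis of Rudvalis type Sylow 2-subgroups: the subgroup generated by the squares,
normal subgroups of a nilpotent group against the upper central series.
-/

set_option autoImplicit false
set_option linter.style.haveILetI false
set_option linter.unusedSectionVars false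

namespace Cfsg.Lib.RuSylow

open Subgroup
open scoped commutatorElement

variable {G : Type*} [Group G]

/-- The subgroup generated by the squares of the elements of a subgroup. -/
def sq (U : Subgroup G) : Subgroup G := closure {y | ∃ x ∈ U, x * x = y}

theorem mem_sq {U : Subgroup G} {x : G} (h : x ∈ U) : x * x ∈ sq U := subset_closure ⟨x, h, rfl⟩

theorem sq_le {U : Subgroup G} : sq U ≤ U := by
  refine (closure_le _).2 ?_
  rintro _ ⟨x, hx, rfl⟩
  exact mul_mem hx hx

theorem sq_mono {U V : Subgroup G} (h : U ≤ V) : sq U ≤ sq V :=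
  (closure_le _).2 fun _ ⟨_, hx, e⟩ => e ▸ mem_sq (h hx)

theorem comm_mem_sq {U : Subgroup G} {x y : G} (hx : x ∈ U) (hy : y ∈ U) : ⁅x, y⁆ ∈ sq U := by
  rw [commutatorElement_def, show x * y * x⁻¹ * y⁻¹ =
    (x * y) * (x * y) * ((y⁻¹ * x⁻¹ * y) * (y⁻¹ * x⁻¹ * y)) * (y⁻¹ * y⁻¹) by group]
  exact mul_mem (mul_mem (mem_sq (mul_mem hx hy))
    (mem_sq (mul_mem (mul_mem (inv_mem hy) (inv_mem hx)) hy))) (mem_sq (inv_mem hy))

theorem map_sq {G' : Type*} [Group G'] (U : Subgroup G) (f : G →* G') : (sq U).map f = sq (U.map f) := by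
  rw [sq, MonoidHom.map_closure]
  congr 1
  ext y
  constructor
  · rintro ⟨_, ⟨x, hx, rfl⟩, rfl⟩
    exact ⟨f x, mem_map_of_mem f hx, (map_mul _ _ _).symm⟩
  · rintro ⟨_, ⟨x, hx, rfl⟩, rfl⟩
    exact ⟨x * x, ⟨x, hx, rfl⟩, map_mul _ _ _⟩

theorem sq_le_frattini {p : Subgroup G} [Finite G] (hp : IsPGroup 2 p) :
    sq p ≤ (frattini ↥p).map p.subtype := by
  haveI : Fact (Nat.Prime 2) := ⟨Nat.prime_two⟩
  refine (closure_le _).2 ?_
  rintro _ ⟨x, hx, rfl⟩
  refine ⟨(⟨x, hx⟩ : ↥p) ^ 2, Cfsg.Lib.PGroups.pow_mem_frattini hp _, ?_⟩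
  simp [pow_two]

/-- Conjugation as a map of subgroups. -/
abbrev cj (g : G) (U : Subgroup G) : Subgroup G := U.map (MulAut.conj g).toMonoidHom

theorem mem_cj {g x : G} {U : Subgroup G} : x ∈ cj g U ↔ g⁻¹ * x * g ∈ U := by
  constructor
  · rintro ⟨y, hy, rfl⟩
    simpa [mul_assoc] using hy
  · intro h
    exact ⟨_, h, by simp [mul_assoc]⟩

/-- In a subgroup over which all squares lie in `N`, an element outside `N` is avoided by an index two subgroup. -/
theorem exists_avoid [Finite G] {U N : Subgroup G} (hNU : N ≤ U) (hsq : ∀ x ∈ U, x * x ∈ N) {o : G} (ho : o ∈ U)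
    (hoN : o ∉ N) : ∃ M : Subgroup G, N ≤ M ∧ M ≤ U ∧ o ∉ M ∧ M.relIndex U = 2 := by
  set N' := N.subgroupOf U with hN'
  have hsq' : ∀ x : ↥U, x * x ∈ N' := fun x => mem_subgroupOf.2 (hsq _ x.2)
  obtain ⟨M, ⟨hNM, hoM⟩, hmax⟩ := Set.Finite.exists_maximalFor (id : Subgroup ↥U → Subgroup ↥U)
    {M | N' ≤ M ∧ (⟨o, ho⟩ : ↥U) ∉ M} (Set.toFinite _) ⟨N', le_rfl, hoN⟩
  have hMsq : ∀ x, x * x ∈ M := fun x => hNM (hsq' x)
  haveI hMn : M.Normal := ⟨fun a ha g => by
    rw [show g * a * g⁻¹ = (g * g) * ((g⁻¹ * a) * (g⁻¹ * a)) * a⁻¹ by group]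
    exact mul_mem (mul_mem (hMsq g) (hMsq _)) (inv_mem ha)⟩
  refine ⟨M.map U.subtype, fun x hx => ⟨⟨x, hNU hx⟩, hNM hx, rfl⟩, map_subtype_le M, ?_, ?_⟩
  · rintro ⟨x, hx, hxo⟩
    exact hoM (by rwa [show (⟨o, ho⟩ : ↥U) = x from Subtype.ext hxo.symm])
  · rw [relIndex, subgroupOf, comap_map_eq_self_of_injective U.subtype_injective, index_eq_two_iff']
    refine ⟨⟨o, ho⟩, fun b => ?_⟩
    by_cases hb : b ∈ M
    · exact Or.inr ⟨hb, fun h => hoM ((M.mul_mem_cancel_right hb).1 h)⟩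
    refine Or.inl ⟨?_, hb⟩
    have hlt : M < M ⊔ zpowers b := lt_of_le_of_ne le_sup_left fun e =>
      hb (e ▸ (le_sup_right : zpowers b ≤ _) (mem_zpowers b))
    have ho' : (⟨o, ho⟩ : ↥U) ∈ M ⊔ zpowers b := by
      by_contra h
      exact hlt.not_ge (hmax ⟨hNM.trans le_sup_left, h⟩ hlt.le)
    obtain ⟨m, hm, z, hz, e⟩ := mem_sup_of_normal_left.1 ho'
    obtain ⟨i, rfl⟩ := mem_zpowers_iff.1 hz
    rcases Int.even_or_odd i with ⟨j, rfl⟩ | ⟨j, rfl⟩
    · exact absurd (e ▸ mul_mem hm (by rw [zpow_add]; exact hMsq _)) hoM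
    · rw [← e, show m * b ^ (2 * j + 1) * b = m * (b ^ (j + 1) * b ^ (j + 1)) by group]
      exact mul_mem hm (hMsq _)

/-- Subgroups of index at most `16` contain `D`: then those of index at most `8` have `D` among their squares. -/
theorem le_sq_of_index [Finite G] {W D : Subgroup G}
    (hd : ∀ U : Subgroup G, U ≤ W → U.relIndex W ≤ 16 → D ≤ U) {U : Subgroup G} (hU : U ≤ W)
    (h8 : U.relIndex W ≤ 8) : D ≤ sq U := by
  intro x hx
  by_contra hn
  obtain ⟨M, -, hMU, hxM, h2⟩ := exists_avoid (sq_le (U := U)) (fun y hy => mem_sq hy) (hd U hU (by omega) hx) hn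
  refine hxM (hd M (hMU.trans hU) ?_ hx)
  rw [← relIndex_mul_relIndex M U W hMU hU, h2]
  omega

/-- A normal subgroup of a nilpotent group properly over `D` contains an element central modulo `D`. -/
theorem exists_fix [Group.IsNilpotent G] {N : Subgroup G} [N.Normal] {D : Subgroup G} (hne : ¬ N ≤ D) :
    ∃ n ∈ N, n ∉ D ∧ ∀ t : G, n * t * n⁻¹ * t⁻¹ ∈ D := by
  classical
  obtain ⟨n₀, hn₀, hn₀D⟩ := SetLike.not_le_iff_exists.1 hne
  obtain ⟨c, hc⟩ := Group.IsNilpotent.nilpotent G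
  have hex : ∃ j, ∃ n ∈ N, n ∉ D ∧ n ∈ Subgroup.upperCentralSeries G j :=
    ⟨c, n₀, hn₀, hn₀D, hc ▸ mem_top _⟩
  obtain ⟨n, hn, hnD, hnj⟩ := Nat.find_spec hex
  refine ⟨n, hn, hnD, fun t => ?_⟩
  by_contra hcn
  obtain ⟨j, hj⟩ : ∃ j, Nat.find hex = j + 1 := Nat.exists_eq_succ_of_ne_zero fun h => hnD (by
    rw [h, Subgroup.upperCentralSeries_zero, mem_bot] at hnj; rw [hnj]; exact one_mem _)
  rw [hj] at hnj
  refine Nat.find_min hex (show j < Nat.find hex by omega) ⟨n * t * n⁻¹ * t⁻¹, ?_, hcn,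
    Subgroup.mem_upperCentralSeries_succ_iff.1 hnj t⟩
  rw [show n * t * n⁻¹ * t⁻¹ = n * (t * n⁻¹ * t⁻¹) by group]
  exact mul_mem hn ((inferInstance : N.Normal).conj_mem _ (inv_mem hn) t)

/-- The upper central series grows at least by the prime at each proper step. -/
theorem two_mul_card_le [Finite G] (hG : IsPGroup 2 G) {i : ℕ} (h : Subgroup.upperCentralSeries G i ≠ ⊤) :
    2 * Nat.card (Subgroup.upperCentralSeries G i) ≤ Nat.card (Subgroup.upperCentralSeries G (i + 1)) := by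
  haveI : Fact (Nat.Prime 2) := ⟨Nat.prime_two⟩
  haveI := hG.isNilpotent
  have hle : Subgroup.upperCentralSeries G i ≤ Subgroup.upperCentralSeries G (i + 1) := Subgroup.upperCentralSeries_mono _ (by omega)
  obtain ⟨n, -, hn, hc⟩ := exists_fix (N := (⊤ : Subgroup G)) (D := Subgroup.upperCentralSeries G i)
    fun e => h (top_le_iff.1 e)
  have hlt : Subgroup.upperCentralSeries G i < Subgroup.upperCentralSeries G (i + 1) :=
    lt_of_le_of_ne hle fun e => hn (e.symm ▸ Subgroup.mem_upperCentralSeries_succ_iff.2 hc)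
  have hm := relIndex_mul_relIndex ⊥ _ _ bot_le hle
  rw [relIndex_bot_left, relIndex_bot_left] at hm
  rw [← hm, mul_comm 2]
  refine Nat.mul_le_mul_left _ ?_
  rcases Nat.lt_or_ge ((Subgroup.upperCentralSeries G i).relIndex (Subgroup.upperCentralSeries G (i + 1))) 2 with h2 | h2
  · exfalso
    have h0 : (Subgroup.upperCentralSeries G i).relIndex (Subgroup.upperCentralSeries G (i + 1)) ≠ 0 :=
      Subgroup.index_ne_zero_of_finite
    exact hlt.not_ge (relIndex_eq_one.1 (by omega))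
  · exact h2

/-- A normal subgroup of order `2 ^ k` lies in the `k`-th term of the upper central series. -/
theorem le_upperCentralSeries_of_card [Finite G] (hG : IsPGroup 2 G) {N : Subgroup G} [N.Normal] {k : ℕ}
    (hN : Nat.card N ≤ 2 ^ k) : N ≤ Subgroup.upperCentralSeries G k := by
  haveI : Fact (Nat.Prime 2) := ⟨Nat.prime_two⟩
  haveI := hG.isNilpotent
  have key : ∀ i, N ≤ Subgroup.upperCentralSeries G i ∨ 2 ^ i ≤ Nat.card ↥(N ⊓ Subgroup.upperCentralSeries G i) := by
    intro i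
    induction i with
    | zero => exact Or.inr (by rw [pow_zero]; exact Nat.card_pos)
    | succ i ih =>
      by_cases hle : N ≤ Subgroup.upperCentralSeries G (i + 1)
      · exact Or.inl hle
      refine Or.inr ?_
      have hi : ¬ N ≤ Subgroup.upperCentralSeries G i := fun h => hle (h.trans (Subgroup.upperCentralSeries_mono _ (by omega)))
      obtain ⟨n, hn, hni, hc⟩ := exists_fix hi
      have hlt : N ⊓ Subgroup.upperCentralSeries G i < N ⊓ Subgroup.upperCentralSeries G (i + 1) :=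
        lt_of_le_of_ne (inf_le_inf_left N (Subgroup.upperCentralSeries_mono _ (by omega))) fun e =>
          hni ((e.symm ▸ mem_inf.2 ⟨hn, Subgroup.mem_upperCentralSeries_succ_iff.2 hc⟩ :
            n ∈ N ⊓ Subgroup.upperCentralSeries G i)).2
      obtain ⟨a, ha⟩ := IsPGroup.iff_card.1 (hG.to_subgroup (N ⊓ Subgroup.upperCentralSeries G i))
      obtain ⟨b, hb⟩ := IsPGroup.iff_card.1 (hG.to_subgroup (N ⊓ Subgroup.upperCentralSeries G (i + 1)))
      have hab : a < b := by
        by_contra h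
        exact hlt.ne (eq_of_le_of_card_ge hlt.le (by rw [ha, hb]; exact Nat.pow_le_pow_right two_pos (by omega)))
      have hai : i ≤ a := by
        have := ih.resolve_left hi
        rw [ha] at this
        exact (Nat.pow_le_pow_iff_right one_lt_two).1 this
      rw [hb]
      exact Nat.pow_le_pow_right two_pos (by omega)
  rcases key k with h | h
  · exact h
  · exact inf_eq_left.1 (eq_of_le_of_card_ge inf_le_left (hN.trans h))

end Cfsg.Lib.RuSylow
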