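import Cfsg.Agent.RuSylow.Basic
import Mathlib.GroupTheory.GroupAction.Quotient
import Mathlib.Data.ZMod.Basic

/-!
A transfer argument: for a cocycle with values in the group of order two on a set acted on by the group, the
contribution of an orbit of a 2-subgroup `P` vanishes as soon as the orbit is large for a normal subgroup `W`
whose subgroups of small index contain the squares of `W` among their squares.
-/

set_option autoImplicit false
set_option linter.style.haveILetI false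
set_option linter.unusedSectionVars false

namespace Cfsg.Lib.RuSylow

open Subgroup MulAction
open scoped commutatorElement

variable {G : Type*} [Group G] [Finite G] {X : Type*} [MulAction G X] [DecidableEq X]
variable {c : G → X → ZMod 2}

/-- The cocycle condition. -/
def IsCocycle (c : G → X → ZMod 2) : Prop := ∀ a b q, c (a * b) q = c a (b • q) + c b q

/-- Invariance of a finite set under a subgroup. -/
def Inv (P : Subgroup G) (Y : Finset X) : Prop := ∀ a ∈ P, ∀ q ∈ Y, a • q ∈ Y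

theorem Inv.image {P : Subgroup G} {Y : Finset X} (h : Inv P Y) {a : G} (ha : a ∈ P) :
    Y.image (a • ·) = Y :=
  Finset.eq_of_subset_of_card_le (fun q hq => by
    obtain ⟨r, hr, rfl⟩ := Finset.mem_image.1 hq
    exact h a ha r hr) (by rw [Finset.card_image_of_injective _ (MulAction.injective a)])

/-- The contribution of a set. -/
def tot (c : G → X → ZMod 2) (Y : Finset X) (p : G) : ZMod 2 := ∑ q ∈ Y, c p q

variable (hc : IsCocycle c)
include hc

theorem tot_mul {P : Subgroup G} {Y : Finset X} (hY : Inv P Y) (a : G) {b : G} (hb : b ∈ P) :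
    tot c Y (a * b) = tot c Y a + tot c Y b := by
  have h : ∑ q ∈ Y, c a (b • q) = tot c Y a := by
    rw [tot, ← Finset.sum_image (s := Y) (f := c a) (g := (b • ·)) fun x _ y _ e => MulAction.injective b e,
      hY.image hb]
  rw [tot, Finset.sum_congr rfl fun q _ => hc a b q, Finset.sum_add_distrib, h]
  rfl

theorem tot_one (Y : Finset X) : tot c Y 1 = 0 := by
  have h := tot_mul hc (P := (⊥ : Subgroup G)) (Y := Y) (fun a ha q hq => by
    rw [mem_bot.1 ha, one_smul]; exact hq) 1 (b := 1) (one_mem _)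
  rw [mul_one] at h
  exact left_eq_add.1 h

theorem tot_sq {P : Subgroup G} {Y : Finset X} (hY : Inv P Y) {x : G} (hx : x ∈ sq P) : tot c Y x = 0 := by
  suffices h : x ∈ P ∧ tot c Y x = 0 from h.2
  induction hx using closure_induction with
  | mem y hy =>
    obtain ⟨a, ha, rfl⟩ := hy
    exact ⟨mul_mem ha ha, by rw [tot_mul hc hY a ha, CharTwo.add_self_eq_zero]⟩
  | one => exact ⟨one_mem _, tot_one hc Y⟩
  | mul y z _ _ hy hz => exact ⟨mul_mem hy.1 hz.1, by rw [tot_mul hc hY y hz.1, hy.2, hz.2, add_zero]⟩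
  | inv y _ hy =>
    refine ⟨inv_mem hy.1, ?_⟩
    have h := tot_mul hc hY y⁻¹ hy.1
    rw [inv_mul_cancel, tot_one hc, hy.2, add_zero] at h
    exact h.symm

/-- The step from a subgroup of index two. -/
theorem tot_step {R : Subgroup G} {t p : G} {Y₁ : Finset X} (hY : Inv R Y₁)
    (hdisj : Disjoint Y₁ (Y₁.image (t • ·))) :
    (p ∈ R → t⁻¹ * p * t ∈ R → tot c (Y₁ ∪ Y₁.image (t • ·)) p = tot c Y₁ p + tot c Y₁ (t⁻¹ * p * t)) ∧
    (p * p ∈ R → Y₁.image (p • ·) = Y₁.image (t • ·) →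
      tot c (Y₁ ∪ Y₁.image (t • ·)) p = tot c Y₁ (p * p)) := by
  have hsum : ∀ a : G, tot c (Y₁.image (a • ·)) p = ∑ q ∈ Y₁, c p (a • q) := fun a =>
    Finset.sum_image fun x _ y _ e => MulAction.injective a e
  constructor
  · intro _ hr
    have h2 : tot c (Y₁.image (t • ·)) p = tot c Y₁ (t⁻¹ * p * t) := by
      have e1 : ∀ q, c p (t • q) = c t ((t⁻¹ * p * t) • q) + c (t⁻¹ * p * t) q - c t q := fun q => by
        rw [eq_sub_iff_add_eq, ← hc, ← hc, mul_assoc t⁻¹, mul_inv_cancel_left]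
      rw [hsum, Finset.sum_congr rfl fun q _ => e1 q, Finset.sum_sub_distrib, Finset.sum_add_distrib,
        ← Finset.sum_image (s := Y₁) (f := c t) (g := ((t⁻¹ * p * t) • ·))
          fun x _ y _ e => MulAction.injective _ e, hY.image hr]
      simp [tot]
    rw [tot, Finset.sum_union hdisj]
    exact congrArg (tot c Y₁ p + ·) h2
  · intro hpp he
    rw [← he] at hdisj ⊢
    rw [tot, Finset.sum_union hdisj]
    show tot c Y₁ p + tot c (Y₁.image (p • ·)) p = _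
    rw [hsum, tot, add_comm, ← Finset.sum_add_distrib]
    exact Finset.sum_congr rfl fun q _ => (hc p p q).symm

omit hc

/-- An index two subgroup over a point stabiliser splits the orbit. -/
theorem orbit_split [Fintype X] {P R : Subgroup G} {q : X} (hRP : R ≤ P) (h2 : R.relIndex P = 2)
    (hS : P ⊓ stabilizer G q ≤ R) {t : G} (ht : t ∈ P) (htR : t ∉ R) :
    (∀ r ∈ R, t⁻¹ * r * t ∈ R) ∧ (∀ p ∈ P, p ∉ R → p * p ∈ R) ∧
    ∀ Y Y₁ : Finset X, (∀ y, y ∈ Y ↔ ∃ p ∈ P, p • q = y) → (∀ y, y ∈ Y₁ ↔ ∃ r ∈ R, r • q = y) →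
      Inv R Y₁ ∧ Y = Y₁ ∪ Y₁.image (t • ·) ∧ Disjoint Y₁ (Y₁.image (t • ·)) ∧
        ∀ p ∈ P, p ∉ R → Y₁.image (p • ·) = Y₁.image (t • ·) := by
  have hi : (R.subgroupOf P).index = 2 := h2
  have hmul : ∀ {a b : G}, a ∈ P → b ∈ P → a ∉ R → b ∉ R → a * b ∈ R := fun {a b} ha hb haR hbR =>
    mem_subgroupOf.1 ((mul_mem_iff_of_index_two hi (a := ⟨a, ha⟩) (b := ⟨b, hb⟩)).2
      (iff_of_false (fun h => haR (mem_subgroupOf.1 h)) fun h => hbR (mem_subgroupOf.1 h)))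
  have htinv : t⁻¹ ∉ R := fun h => htR (inv_mem_iff.1 h)
  refine ⟨fun r hr => ?_, fun p hp hpR => hmul hp hp hpR hpR, fun Y Y₁ hY hY₁ => ?_⟩
  · exact hmul (mul_mem (inv_mem ht) (hRP hr)) ht (fun h => htinv ((R.mul_mem_cancel_right hr).1 h)) htR
  refine ⟨fun a ha y hy => ?_, ?_, ?_, fun p hp hpR => ?_⟩
  · obtain ⟨r, hr, rfl⟩ := (hY₁ y).1 hy
    exact (hY₁ _).2 ⟨a * r, mul_mem ha hr, mul_smul _ _ _⟩
  · ext y
    rw [Finset.mem_union, Finset.mem_image]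
    constructor
    · intro hy
      obtain ⟨p, hp, rfl⟩ := (hY y).1 hy
      by_cases hpR : p ∈ R
      · exact Or.inl ((hY₁ _).2 ⟨p, hpR, rfl⟩)
      · refine Or.inr ⟨(t⁻¹ * p) • q, (hY₁ _).2 ⟨_, hmul (inv_mem ht) hp htinv hpR, rfl⟩, ?_⟩
        rw [← mul_smul, mul_inv_cancel_left]
    · rintro (hy | ⟨z, hz, rfl⟩)
      · obtain ⟨r, hr, rfl⟩ := (hY₁ y).1 hy
        exact (hY _).2 ⟨r, hRP hr, rfl⟩
      · obtain ⟨r, hr, rfl⟩ := (hY₁ z).1 hz
        exact (hY _).2 ⟨t * r, mul_mem ht (hRP hr), mul_smul _ _ _⟩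
  · rw [Finset.disjoint_left]
    intro y hy hy'
    obtain ⟨r, hr, rfl⟩ := (hY₁ y).1 hy
    obtain ⟨z, hz, e⟩ := Finset.mem_image.1 hy'
    obtain ⟨r', hr', rfl⟩ := (hY₁ z).1 hz
    have h1 : r⁻¹ * (t * r') ∈ R := hS (mem_inf.2 ⟨mul_mem (inv_mem (hRP hr)) (mul_mem ht (hRP hr')),
      mem_stabilizer_iff.2 (by rw [mul_smul, mul_smul, e, inv_smul_smul])⟩)
    have h2' := mul_mem (mul_mem hr h1) (inv_mem hr')
    rw [mul_inv_cancel_left, mul_inv_cancel_right] at h2'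
    exact htR h2'
  · ext y
    simp only [Finset.mem_image]
    constructor
    · rintro ⟨z, hz, rfl⟩
      obtain ⟨r, hr, rfl⟩ := (hY₁ z).1 hz
      refine ⟨(t⁻¹ * p * r) • q, (hY₁ _).2 ⟨_, mul_mem (hmul (inv_mem ht) hp htinv hpR) hr, rfl⟩, ?_⟩
      rw [← mul_smul, ← mul_smul]; group
    · rintro ⟨z, hz, rfl⟩
      obtain ⟨r, hr, rfl⟩ := (hY₁ z).1 hz
      refine ⟨(p⁻¹ * t * r) • q, (hY₁ _).2 ⟨_, mul_mem (hmul (inv_mem hp) ht (fun h => hpR (inv_mem_iff.1 h)) htR) hr, rfl⟩, ?_⟩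
      rw [← mul_smul, ← mul_smul]; group

/-- An index two overgroup in a 2-group. -/
theorem exists_relIndex_two {P S : Subgroup G} (hP : IsPGroup 2 P) (hSP : S ≤ P) (hne : ¬ P ≤ S) :
    ∃ R : Subgroup G, S ≤ R ∧ R ≤ P ∧ R.relIndex P = 2 := by
  haveI : Fact (Nat.Prime 2) := ⟨Nat.prime_two⟩
  obtain ⟨M, hM, hSM⟩ := (eq_top_or_exists_le_coatom (S.subgroupOf P)).resolve_left fun h => hne (subgroupOf_eq_top.1 h)
  refine ⟨M.map P.subtype, fun x hx => ⟨⟨x, hSP hx⟩, hSM hx, rfl⟩, map_subtype_le M, ?_⟩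
  rw [relIndex, subgroupOf, comap_map_eq_self_of_injective P.subtype_injective]
  exact (Cfsg.Lib.PGroups.coatom_normal_index hP hM).2

theorem relIndex_inf_le {R P W : Subgroup G} (hW : W ≤ P) : (W ⊓ R).relIndex W ≤ R.relIndex P := by
  rw [inf_comm, inf_relIndex_right]
  exact relIndex_le_of_le_right hW Subgroup.index_ne_zero_of_finite

variable [Fintype X]
include hc

/-- A large orbit contributes nothing. -/
theorem tot_orbit {W P : Subgroup G} {q : X} (hP : IsPGroup 2 P) (hWP : W ≤ P)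
    (hn : ∀ p ∈ P, ∀ w ∈ W, p * w * p⁻¹ ∈ W) (hPW : ∀ p ∈ P, p * p ∈ W)
    (hsq : ∀ U : Subgroup G, U ≤ W → U.relIndex W ≤ 8 → sq W ≤ sq U)
    (hbig : 2 < (W ⊓ stabilizer G q).relIndex W) {Y : Finset X} (hY : ∀ y, y ∈ Y ↔ ∃ p ∈ P, p • q = y)
    (htr : ∀ y ∈ Y, ∃ w ∈ W, w • q = y) {p : G} (hp : p ∈ P) : tot c Y p = 0 := by
  classical
  set S := stabilizer G q
  have hWS : ∀ x ∈ P, ∃ w ∈ W, w⁻¹ * x ∈ P ⊓ S := fun x hx => by
    obtain ⟨w, hw, e⟩ := htr _ ((hY _).2 ⟨x, hx, rfl⟩)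
    exact ⟨w, hw, mem_inf.2 ⟨mul_mem (inv_mem (hWP hw)) hx,
      mem_stabilizer_iff.2 (by rw [mul_smul, ← e, inv_smul_smul])⟩⟩
  obtain ⟨R₁, hSR₁, hR₁P, h21⟩ := exists_relIndex_two hP (inf_le_left : P ⊓ S ≤ P) fun h => by
    have h0 : W ⊓ S = W := inf_eq_left.2 ((hWP.trans h).trans inf_le_right)
    rw [h0, relIndex_self] at hbig; omega
  obtain ⟨t, htW, htR⟩ : ∃ t ∈ W, t ∉ R₁ := by
    by_contra h
    push Not at h
    have : P ≤ R₁ := fun x hx => by
      obtain ⟨w, hw, hwx⟩ := hWS x hx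
      have := mul_mem (h w hw) (hSR₁ hwx)
      rwa [mul_inv_cancel_left] at this
    rw [relIndex_eq_one.2 this] at h21; omega
  obtain ⟨hconj1, hsq1, hsplit1⟩ := orbit_split (q := q) hR₁P h21 hSR₁ (hWP htW) htR
  set Y₁ : Finset X := Finset.univ.filter fun y => ∃ r ∈ R₁, r • q = y with hY₁d
  have hY₁ : ∀ y, y ∈ Y₁ ↔ ∃ r ∈ R₁, r • q = y := fun y => by simp [hY₁d]
  obtain ⟨hInv1, hYeq, hdisj1, himg1⟩ := hsplit1 Y Y₁ hY hY₁
  -- the contribution is that of an element of `W ⊓ R₁` on the half orbit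
  obtain ⟨j, hjW, hjR, hj⟩ : ∃ j, j ∈ W ∧ j ∈ R₁ ∧ tot c Y p = tot c Y₁ j := by
    rw [hYeq]
    by_cases hpR : p ∈ R₁
    · refine ⟨p * (t⁻¹ * p * t), ?_, mul_mem hpR (hconj1 p hpR), ?_⟩
      · rw [show p * (t⁻¹ * p * t) = (p * p) * (p⁻¹ * t⁻¹ * p⁻¹⁻¹) * t by group]
        exact mul_mem (mul_mem (hPW p hp) (hn p⁻¹ (inv_mem hp) _ (inv_mem htW))) htW
      · rw [(tot_step hc hInv1 hdisj1).1 hpR (hconj1 p hpR), tot_mul hc hInv1 p (hconj1 p hpR)]
    · exact ⟨p * p, hPW p hp, hsq1 p hp hpR, (tot_step hc hInv1 hdisj1).2 (hsq1 p hp hpR) (himg1 p hp hpR)⟩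
  rw [hj]
  have hS1 : R₁ ⊓ S = P ⊓ S := le_antisymm (inf_le_inf_right S hR₁P) (le_inf hSR₁ inf_le_right)
  have hne1 : ¬ R₁ ≤ P ⊓ S := fun h => by
    have hle : (W ⊓ S).relIndex W ≤ 2 := by
      rw [← h21]
      refine le_trans (Nat.le_of_dvd (Nat.pos_of_ne_zero Subgroup.index_ne_zero_of_finite) ?_) (relIndex_inf_le hWP)
      exact relIndex_dvd_of_le_left W (inf_le_inf_left W (h.trans inf_le_right))
    omega
  obtain ⟨R₂, hSR₂, hR₂1, h22⟩ := exists_relIndex_two (hP.to_le hR₁P) (le_of_eq_of_le hS1.symm inf_le_left) hne1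
  have hJ : ∀ x ∈ R₁, ∃ w ∈ W ⊓ R₁, w⁻¹ * x ∈ P ⊓ S := fun x hx => by
    obtain ⟨w, hw, hwx⟩ := hWS x (hR₁P hx)
    refine ⟨w, mem_inf.2 ⟨hw, ?_⟩, hwx⟩
    have := mul_mem hx (inv_mem (hSR₁ hwx))
    rwa [mul_inv_rev, inv_inv, mul_inv_cancel_left] at this
  obtain ⟨t₂, htJ, ht2R⟩ : ∃ t ∈ W ⊓ R₁, t ∉ R₂ := by
    by_contra h
    push Not at h
    have : R₁ ≤ R₂ := fun x hx => by
      obtain ⟨w, hw, hwx⟩ := hJ x hx
      have := mul_mem (h w hw) (hSR₂ hwx)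
      rwa [mul_inv_cancel_left] at this
    rw [relIndex_eq_one.2 this] at h22; omega
  obtain ⟨hconj2, hsq2, hsplit2⟩ := orbit_split (q := q) hR₂1 h22 (hS1 ▸ hSR₂) (mem_inf.1 htJ).2 ht2R
  set Y₂ : Finset X := Finset.univ.filter fun y => ∃ r ∈ R₂, r • q = y with hY₂d
  have hY₂ : ∀ y, y ∈ Y₂ ↔ ∃ r ∈ R₂, r • q = y := fun y => by simp [hY₂d]
  obtain ⟨hInv2, hY1eq, hdisj2, himg2⟩ := hsplit2 Y₁ Y₂ hY₁ hY₂
  have h4 : (W ⊓ R₂).relIndex W ≤ 8 := by
    refine (relIndex_inf_le hWP).trans ?_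
    rw [← relIndex_mul_relIndex R₂ R₁ P hR₂1 hR₁P, h21, h22]
    norm_num
  have hzero : ∀ d ∈ sq W, tot c Y₂ d = 0 := fun d hd =>
    tot_sq hc hInv2 (sq_mono inf_le_right (hsq _ inf_le_left h4 hd))
  have htW2 : t₂ ∈ W := (mem_inf.1 htJ).1
  rw [hY1eq]
  by_cases hjR2 : j ∈ R₂
  · rw [(tot_step hc hInv2 hdisj2).1 hjR2 (hconj2 j hjR2), ← tot_mul hc hInv2 j (hconj2 j hjR2)]
    refine hzero _ ?_
    rw [show j * (t₂⁻¹ * j * t₂) = (j * j) * ⁅j⁻¹, t₂⁻¹⁆ by rw [commutatorElement_def]; group]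
    exact mul_mem (mem_sq hjW) (comm_mem_sq (inv_mem hjW) (inv_mem htW2))
  · rw [(tot_step hc hInv2 hdisj2).2 (hsq2 j hjR hjR2) (himg2 j hjR hjR2)]
    exact hzero _ (mem_sq hjW)

/-- A set invariant under `W⟨x⟩` without small orbits of `W` contributes nothing at `x`. -/
theorem tot_invariant {W P : Subgroup G} {x : G} (hP : IsPGroup 2 P) (hWP : W ≤ P) (hxP : x ∈ P)
    (hn : ∀ p ∈ P, ∀ w ∈ W, p * w * p⁻¹ ∈ W) (hPW : ∀ p ∈ P, p * p ∈ W)
    (hgen : ∀ p ∈ P, p ∈ W ∨ x⁻¹ * p ∈ W)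
    (hsq : ∀ U : Subgroup G, U ≤ W → U.relIndex W ≤ 8 → sq W ≤ sq U)
    {Y : Finset X} (hY : Inv P Y) (hbig : ∀ q ∈ Y, 2 < (W ⊓ stabilizer G q).relIndex W) : tot c Y x = 0 := by
  classical
  induction Y using Finset.strongInduction with
  | _ Y ih =>
    rcases Y.eq_empty_or_nonempty with rfl | ⟨q, hq⟩
    · rfl
    set O : Finset X := Finset.univ.filter fun y => ∃ p ∈ P, p • q = y with hOd
    have hO : ∀ y, y ∈ O ↔ ∃ p ∈ P, p • q = y := fun y => by simp [hOd]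
    have hOY : O ⊆ Y := fun y hy => by obtain ⟨p, hp, rfl⟩ := (hO y).1 hy; exact hY p hp q hq
    have hqO : q ∈ O := (hO q).2 ⟨1, one_mem _, one_smul _ _⟩
    have hrest : tot c (Y \ O) x = 0 := by
      refine ih _ (Finset.sdiff_ssubset hOY ⟨q, hqO⟩) (fun p hp y hy => ?_) fun y hy => hbig y (Finset.mem_sdiff.1 hy).1
      rw [Finset.mem_sdiff] at hy ⊢
      refine ⟨hY p hp y hy.1, fun h => hy.2 ?_⟩
      obtain ⟨r, hr, e⟩ := (hO _).1 h
      exact (hO y).2 ⟨p⁻¹ * r, mul_mem (inv_mem hp) hr, by rw [mul_smul, e, inv_smul_smul]⟩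
    have horb : tot c O x = 0 := by
      by_cases htr : ∀ y ∈ O, ∃ w ∈ W, w • q = y
      · exact tot_orbit hc hP hWP hn hPW hsq (hbig q hq) hO htr hxP
      push Not at htr
      obtain ⟨y, hy, hno⟩ := htr
      obtain ⟨p, hp, rfl⟩ := (hO y).1 hy
      have hxW : x ∉ W := fun h => hno p (by
        rcases hgen p hp with h' | h'
        · exact h'
        · have := mul_mem h h'; rwa [mul_inv_cancel_left] at this) rfl
      have hfix : ∀ r ∈ P, r • q = q → r ∈ W := fun r hr hrq => by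
        rcases hgen r hr with h | h
        · exact h
        exfalso
        rcases hgen p hp with h' | h'
        · exact hno p h' rfl
        · refine hno (p * r⁻¹) ?_ (by
            rw [mul_smul, show r⁻¹ • q = q from inv_smul_eq_iff.2 hrq.symm])
          have h1 : p * r⁻¹ = x * ((x⁻¹ * p) * (x⁻¹ * r)⁻¹) * x⁻¹ := by group
          rw [h1]
          exact hn x hxP _ (mul_mem h' (inv_mem h))
      have h2 : W.relIndex P = 2 := by
        rw [relIndex, index_eq_two_iff']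
        refine ⟨⟨x, hxP⟩, fun b => ?_⟩
        simp only [mem_subgroupOf]
        show Xor (x * (b : G) ∈ W) ((b : G) ∈ W)
        rcases hgen b b.2 with h | h
        · exact Or.inr ⟨h, fun h' => hxW ((W.mul_mem_cancel_right h).1 h')⟩
        · have h1 : x * (b : G) ∈ W := by
            rw [show x * (b : G) = x * x * (x⁻¹ * (b : G)) by group]
            exact mul_mem (hPW x hxP) h
          refine Or.inl ⟨h1, fun h' => hxW ((W.mul_mem_cancel_right h').1 h1)⟩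
      obtain ⟨hcj, hsqx, hsplit⟩ := orbit_split (q := q) hWP h2 (fun r hr => hfix r (mem_inf.1 hr).1
        (mem_stabilizer_iff.1 (mem_inf.1 hr).2)) hxP hxW
      set Y₁ : Finset X := Finset.univ.filter fun y => ∃ r ∈ W, r • q = y with hY₁d
      have hY₁ : ∀ y, y ∈ Y₁ ↔ ∃ r ∈ W, r • q = y := fun y => by simp [hY₁d]
      obtain ⟨hInv, hOeq, hdisj, himg⟩ := hsplit O Y₁ hO hY₁
      rw [hOeq, (tot_step hc hInv hdisj).2 (hsqx x hxP hxW) (himg x hxP hxW)]
      exact tot_orbit hc (hP.to_le hWP) le_rfl (fun w hw v hv => mul_mem (mul_mem hw hv) (inv_mem hw))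
        (fun w hw => mul_mem hw hw) hsq (hbig q hq) hY₁ (fun y hy => (hY₁ y).1 hy) (hsqx x hxP hxW)
    rw [tot, ← Finset.sum_sdiff hOY]
    show tot c (Y \ O) x + tot c O x = 0
    rw [hrest, horb, add_zero]

end Cfsg.Lib.RuSylow
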