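import Cfsg.Agent.RuSylow.Setup
import Cfsg.Agent.RuSylow.Orbit
import Cfsg.Agent.Known.SylowTwoMain

/-!
The fusion in the derived subgroup of `W`: without a subgroup of index two, the normaliser of `sq W` induces
the full linear group on it.
-/

set_option autoImplicit false
set_option linter.style.haveILetI false
set_option linter.unusedSectionVars false

namespace Cfsg.Lib.RuSylow

open Subgroup
open scoped commutatorElement

universe u

variable {G : Type u} [Group G] [Finite G] {S : Sylow 2 G} {W : Subgroup G}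

/-- The group of automorphisms of `sq W` as a matrix group. -/
theorem exists_matrix_hom (h : Core (S : Subgroup G) W) :
    ∃ ψ : MulAut ↥(sq W) →* GL (Fin 3) (ZMod 2), Function.Injective ψ := by
  classical
  letI : CommGroup ↥(sq W) := { (inferInstance : Group ↥(sq W)) with
    mul_comm := fun a b => Subtype.ext (h.central a (sq_le a.2) b b.2) }
  letI : Module (ZMod 2) (Additive ↥(sq W)) := AddCommGroup.zmodModule fun v => by
    rw [two_nsmul]; exact Subtype.ext (h.exp _ v.toMul.2)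
  have hfin : Module.finrank (ZMod 2) (Additive ↥(sq W)) = 3 := by
    have h' := Module.natCard_eq_pow_finrank (K := ZMod 2) (V := Additive ↥(sq W))
    rw [Nat.card_congr Additive.toMul, h.cardD, Nat.card_zmod, show (8 : ℕ) = 2 ^ 3 by norm_num] at h'
    exact (Nat.pow_right_injective le_rfl h').symm
  let b := (Module.finBasisOfFinrankEq _ _ hfin).equivFun
  let toMat : MulAut ↥(sq W) →* Matrix (Fin 3) (Fin 3) (ZMod 2) :=
    { toFun := fun α => LinearMap.toMatrix' (b.toLinearMap ∘ₗ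
        (AddMonoidHom.toZModLinearMap 2 (MonoidHom.toAdditive α.toMonoidHom)) ∘ₗ b.symm.toLinearMap)
      map_one' := by
        rw [← LinearMap.toMatrix'_id]
        congr 1
        exact LinearMap.ext fun v => b.apply_symm_apply v
      map_mul' := fun α β => by
        rw [← LinearMap.toMatrix'_comp]
        congr 1
        refine LinearMap.ext fun v => ?_
        show b _ = b (_)
        congr 1
        show Additive.ofMul (α (β _)) = Additive.ofMul (α (b.symm (b _)).toMul)
        rw [b.symm_apply_apply]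
        rfl }
  refine ⟨toMat.toHomUnits, (injective_iff_map_eq_one _).2 fun α hα => MulEquiv.ext fun v => ?_⟩
  have h1 : toMat α = 1 := congrArg Units.val hα
  have h3 := congrArg (fun M => Matrix.toLin' M (b (Additive.ofMul v))) h1
  simp only [Matrix.toLin'_one, LinearMap.id_apply] at h3
  rw [show toMat α = LinearMap.toMatrix' _ from rfl, Matrix.toLin'_toMatrix'] at h3
  have h4 := b.injective h3
  simpa using congrArg Additive.toMul h4

theorem simple_gl : IsSimpleGroup (GL (Fin 3) (ZMod 2)) := by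
  obtain ⟨e⟩ := Cfsg.Lib.SolvStruct.AltEight.gl_equiv_psl 3
  haveI := Cfsg.Lib.Classical.isSimpleGroup_PSL_fin (F := ZMod 2) (n := 3) (by norm_num) (by omega)
  exact e.isSimpleGroup

theorem card_gl : Nat.card (GL (Fin 3) (ZMod 2)) = 168 := by
  rw [Matrix.card_GL_field, ZMod.card, Fin.prod_univ_three]; norm_num


/-- The Sylow subgroup normalises `sq W`. -/
theorem sylow_le_normalizer (h : Core (S : Subgroup G) W) :
    (S : Subgroup G) ≤ normalizer ((sq W : Subgroup G) : Set G) := by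
  intro t ht
  refine mem_normalizer_iff_map_conj_eq.2 ?_
  rw [map_sq]
  congr 1
  ext x
  refine mem_cj.trans ?_
  exact ⟨fun hx => by
    have := h.norm t ht _ hx
    rwa [show t * (t⁻¹ * x * t) * t⁻¹ = x by group] at this, fun hx => by
    have := h.norm t⁻¹ (inv_mem ht) x hx
    rwa [inv_inv] at this⟩

/-- Generators of the Sylow subgroup over `W`: two elements with squares in `W`. -/
theorem exists_gens (h : Core (S : Subgroup G) W) :
    ∃ a ∈ (S : Subgroup G), ∃ b ∈ (S : Subgroup G), a * a ∈ W ∧ b * b ∈ W ∧ ¬ (a * b)⁻¹ * (b * a) ∈ W ∧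
      ∀ K : Subgroup G, W ≤ K → a ∈ K → b ∈ K → (S : Subgroup G) ≤ K := by
  obtain ⟨z₁, z₂, z₃, h1, h2, h3, n1, n2, n21, hcl, hz1, hall, hfix1, hfix2, hz2m, hz3n, hcos⟩ := h.flag
  obtain ⟨a, ha, ha2, ha3⟩ := hall z₁ (by simp) 1 (by simp)
  obtain ⟨b, hb, hb2, hb3⟩ := hall 1 (by simp) z₂ (by simp)
  rw [one_mul] at ha3 hb2
  have ha1 : a * z₁ * a⁻¹ = z₁ := by rw [hz1 a ha, mul_inv_cancel_right]
  have hb1 : b * z₁ * b⁻¹ = z₁ := by rw [hz1 b hb, mul_inv_cancel_right]
  have hinv : ∀ x ∈ (S : Subgroup G), x * (x * z₁ * x⁻¹) * x⁻¹ = z₁ → x * (x * z₂ * x⁻¹) * x⁻¹ = z₂ →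
      x * (x * z₃ * x⁻¹) * x⁻¹ = z₃ → x * x ∈ W := fun x hx e1 e2 e3 => by
    refine h.faithful _ (mul_mem hx hx) fun d hd => ?_
    have hle : sq W ≤ centralizer ({x * x} : Set G) := hcl.trans ((closure_le _).2 (by
      have hone : ∀ z : G, x * (x * z * x⁻¹) * x⁻¹ = z → z ∈ centralizer ({x * x} : Set G) := fun z e => by
        refine mem_centralizer_singleton_iff.2 ?_
        calc z * (x * x) = x * (x * z * x⁻¹) * x⁻¹ * (x * x) := by rw [e]
          _ = x * x * z := by group
      rintro z (rfl | rfl | rfl) <;> apply hone <;> assumption))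
    exact (mem_centralizer_singleton_iff.1 (hle hd)).symm
  have haa : a * a ∈ W := hinv a ha (by rw [ha1, ha1])
    (by rw [ha2, show a * (z₁ * z₂) * a⁻¹ = (a * z₁ * a⁻¹) * (a * z₂ * a⁻¹) by group, ha1, ha2, ← mul_assoc,
      h.exp z₁ h1, one_mul])
    (by rw [ha3, ha3])
  have hbb : b * b ∈ W := hinv b hb (by rw [hb1, hb1]) (by rw [hb2, hb2])
    (by rw [hb3, show b * (z₂ * z₃) * b⁻¹ = (b * z₂ * b⁻¹) * (b * z₃ * b⁻¹) by group, hb2, hb3, ← mul_assoc,
      h.exp z₂ h2, one_mul])
  have hab : ¬ (a * b)⁻¹ * (b * a) ∈ W := fun hw => by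
    have hc := h.central _ hw z₃ h3
    have e1 : (a * b) * z₃ * (a * b)⁻¹ = (b * a) * z₃ * (b * a)⁻¹ :=
      calc (a * b) * z₃ * (a * b)⁻¹ = (a * b) * (z₃ * ((a * b)⁻¹ * (b * a))) * (b * a)⁻¹ := by group
        _ = (a * b) * (((a * b)⁻¹ * (b * a)) * z₃) * (b * a)⁻¹ := by rw [hc]
        _ = _ := by group
    have e2 : (a * b) * z₃ * (a * b)⁻¹ = z₁ * (z₂ * z₃) := by
      calc (a * b) * z₃ * (a * b)⁻¹ = (a * (b * z₃ * b⁻¹) * a⁻¹) := by group
        _ = (a * z₂ * a⁻¹) * (a * z₃ * a⁻¹) := by rw [hb3]; group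
        _ = z₁ * z₂ * z₃ := by rw [ha2, ha3]
        _ = _ := mul_assoc _ _ _
    have e3 : (b * a) * z₃ * (b * a)⁻¹ = z₂ * z₃ := by
      calc (b * a) * z₃ * (b * a)⁻¹ = b * (a * z₃ * a⁻¹) * b⁻¹ := by group
        _ = _ := by rw [ha3, hb3]
    rw [e2, e3] at e1
    exact n1 (mul_eq_right.1 e1)
  refine ⟨a, ha, b, hb, haa, hbb, hab, fun K hWK haK hbK => ?_⟩
  haveI : Fact (Nat.Prime 2) := ⟨Nat.prime_two⟩
  set K' := K ⊓ (S : Subgroup G)
  haveI hWn : (W.subgroupOf (S : Subgroup G)).Normal := ⟨fun w hw g => mem_subgroupOf.2 (h.norm g g.2 w (mem_subgroupOf.1 hw))⟩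
  have hWK' : W ≤ K' := le_inf hWK h.le
  have hm := relIndex_mul_relIndex W K' (S : Subgroup G) hWK' inf_le_right
  rw [h.index] at hm
  by_contra hne
  have hne' : K'.relIndex (S : Subgroup G) ≠ 1 := fun e => hne ((relIndex_eq_one.1 e).trans inf_le_left)
  -- the image of `K'` would be commutative
  set U := (K'.subgroupOf (S : Subgroup G)).map (QuotientGroup.mk' (W.subgroupOf (S : Subgroup G)))
  have hU : Nat.card U = W.relIndex K' := by
    have e1 : Nat.card U = (W.subgroupOf (S : Subgroup G)).relIndex (K'.subgroupOf (S : Subgroup G)) := by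
      have := relIndex_map_map (QuotientGroup.mk' (W.subgroupOf (S : Subgroup G))) (⊥ : Subgroup ↥(S : Subgroup G))
        (K'.subgroupOf (S : Subgroup G))
      rw [Subgroup.map_bot, relIndex_bot_left, QuotientGroup.ker_mk', bot_sup_eq] at this
      rw [this, sup_eq_left.2 (fun x hx => mem_subgroupOf.2 (hWK' (mem_subgroupOf.1 hx)))]
    rw [e1, relIndex_subgroupOf inf_le_right]
  have h8 : W.relIndex K' ∣ 2 ^ 3 := ⟨_, hm.symm⟩
  obtain ⟨i, hi3, hi⟩ := (Nat.dvd_prime_pow Nat.prime_two).1 h8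
  have hi2 : i ≤ 2 := by
    by_contra hlt
    have : i = 3 := by omega
    subst this
    rw [hi] at hm
    omega
  haveI hcomm : IsMulCommutative U := by
    interval_cases i
    · haveI : Subsingleton U := (Nat.card_eq_one_iff_unique.1 (by rw [hU, hi, pow_zero])).1
      exact ⟨⟨fun x y => Subsingleton.elim _ _⟩⟩
    · haveI : IsCyclic U := isCyclic_of_prime_card (p := 2) (by rw [hU, hi, pow_one])
      exact ⟨⟨fun x y => IsCyclic.commGroup.mul_comm x y⟩⟩
    · exact IsPGroup.isMulCommutative_of_card_eq_prime_sq (p := 2) (by rw [hU, hi])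
  refine hab ?_
  let a' : ↥(S : Subgroup G) := ⟨a, ha⟩
  let b' : ↥(S : Subgroup G) := ⟨b, hb⟩
  have hA : QuotientGroup.mk' (W.subgroupOf (S : Subgroup G)) a' ∈ U := mem_map_of_mem _ (mem_subgroupOf.2 ⟨haK, ha⟩)
  have hB : QuotientGroup.mk' (W.subgroupOf (S : Subgroup G)) b' ∈ U := mem_map_of_mem _ (mem_subgroupOf.2 ⟨hbK, hb⟩)
  have e := congrArg Subtype.val (hcomm.is_comm.comm (⟨_, hA⟩ : U) ⟨_, hB⟩)
  simp only [Subgroup.coe_mul, ← map_mul] at e
  exact mem_subgroupOf.1 (QuotientGroup.eq.1 e)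

/-- Small index subgroups of `W` are only conjugated into `S` by the normaliser of `sq W`. -/
theorem mem_of_conj (h : Core (S : Subgroup G) W) {J : Subgroup G} (hJ : J ≤ W) (h2 : J.relIndex W ≤ 2) {g : G}
    (hg : cj g J ≤ (S : Subgroup G)) : g ∈ normalizer ((sq W : Subgroup G) : Set G) := by
  haveI : Fact (Nat.Prime 2) := ⟨Nat.prime_two⟩
  have hsqJ : sq J = sq W := le_antisymm (sq_mono hJ) (le_sq_of_index h.hidx hJ (by omega))
  set J' := J ⊓ W.comap (MulAut.conj g).toMonoidHom with hJ'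
  have e1 : J'.relIndex J = W.relIndex (cj g J) := by
    rw [hJ', inf_comm, inf_relIndex_right, relIndex_comap]
  have e2 : W.relIndex (cj g J) ≤ 8 :=
    h.index ▸ relIndex_le_of_le_right hg Subgroup.index_ne_zero_of_finite
  have e3 : J'.relIndex W ≤ 16 := by
    rw [← relIndex_mul_relIndex J' J W inf_le_left hJ, e1]
    exact le_trans (Nat.mul_le_mul e2 h2) (by norm_num)
  have hD' : ∀ d ∈ sq W, g * d * g⁻¹ ∈ W := fun d hd => by
    have h' := (mem_inf.1 (h.hidx J' (inf_le_left.trans hJ) e3 hd)).2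
    simpa using h'
  have e4 : W.relIndex (cj g J) ≤ 4 := by
    haveI hWn : (W.subgroupOf (S : Subgroup G)).Normal :=
      ⟨fun w hw s => mem_subgroupOf.2 (h.norm s s.2 w (mem_subgroupOf.1 hw))⟩
    by_contra hlt
    have hm := relIndex_subgroupOf (H := W) hg
    let q := QuotientGroup.mk' (W.subgroupOf (S : Subgroup G))
    set R := ((cj g J).subgroupOf (S : Subgroup G)).map q
    have hR : Nat.card R = W.relIndex (cj g J) := by
      rw [← relIndex_bot_left, show (⊥ : Subgroup (↥(S : Subgroup G) ⧸ W.subgroupOf (S : Subgroup G))) =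
        (W.subgroupOf (S : Subgroup G)).map q from (QuotientGroup.map_mk'_self _).symm, relIndex_map_map,
        QuotientGroup.ker_mk', sup_idem, relIndex_sup_right, hm]
    have hR8 : Nat.card R ∣ 8 := by
      rw [← h.index]
      exact (card_subgroup_dvd_card R).trans (dvd_of_eq rfl)
    have hR' : Nat.card R = 8 := by
      rw [hR] at hR8 ⊢
      obtain ⟨i, hi, hi'⟩ := (Nat.dvd_prime_pow Nat.prime_two).1 (show W.relIndex (cj g J) ∣ 2 ^ 3 from hR8)
      interval_cases i <;> omega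
    have htop : R = ⊤ := eq_top_of_card_eq R (hR'.trans h.index.symm)
    have hsq : ∀ x : ↥(S : Subgroup G) ⧸ W.subgroupOf (S : Subgroup G), x * x = 1 := fun x => by
      obtain ⟨y, hy, rfl⟩ := (htop.symm ▸ mem_top x : x ∈ R)
      rw [← map_mul]
      refine (QuotientGroup.eq_one_iff _).2 (mem_subgroupOf.2 ?_)
      obtain ⟨j, hj, e⟩ := (mem_subgroupOf.1 hy : (y : G) ∈ cj g J)
      have := hD' _ (hsqJ ▸ mem_sq hj)
      rw [Subgroup.coe_mul, ← e, ← map_mul]
      simpa using this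
    obtain ⟨a, ha, b, hb, -, -, hab, -⟩ := exists_gens h
    have hi : ∀ x : ↥(S : Subgroup G) ⧸ W.subgroupOf (S : Subgroup G), x⁻¹ = x :=
      fun x => inv_eq_of_mul_eq_one_right (hsq x)
    let a' : ↥(S : Subgroup G) := ⟨a, ha⟩
    let b' : ↥(S : Subgroup G) := ⟨b, hb⟩
    have e : q (a' * b') = q (b' * a') := by
      rw [map_mul, map_mul]
      calc q a' * q b' = (q a' * q b')⁻¹ := (hi _).symm
        _ = _ := by rw [mul_inv_rev, hi, hi]
    exact hab (mem_subgroupOf.1 (QuotientGroup.eq.1 e))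
  have e5 : sq W ≤ sq J' := le_sq_of_index h.hidx (inf_le_left.trans hJ) (by
    rw [← relIndex_mul_relIndex J' J W inf_le_left hJ, e1]
    exact le_trans (Nat.mul_le_mul e4 h2) (by norm_num))
  have e6 : cj g (sq W) ≤ sq W := by
    refine le_trans (map_mono e5) ?_
    rw [map_sq]
    exact sq_mono fun x ⟨y, hy, e⟩ => e ▸ (mem_inf.1 hy).2
  exact mem_normalizer_iff_map_conj_eq.2 (eq_of_le_of_card_ge e6
    (by rw [card_map_of_injective (MulAut.conj g).injective]))

open MulAction in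
/-- A point other than the base point has a long orbit under `W`. -/
theorem orbit_big (h : Core (S : Subgroup G) W) (g : G)
    (hg : g ∉ normalizer ((sq W : Subgroup G) : Set G)) :
    2 < (W ⊓ stabilizer G (QuotientGroup.mk g : G ⧸ normalizer ((sq W : Subgroup G) : Set G))).relIndex W := by
  classical
  haveI : Fact (Nat.Prime 2) := ⟨Nat.prime_two⟩
  set M := normalizer ((sq W : Subgroup G) : Set G) with hMd
  by_contra hle
  set J := W ⊓ stabilizer G (QuotientGroup.mk g : G ⧸ M) with hJd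
  have hJM : cj g⁻¹ J ≤ M := fun x hx => by
    have hy := mem_stabilizer_iff.1 (mem_inf.1 (mem_cj.1 hx)).2
    rw [MulAction.Quotient.smul_mk, QuotientGroup.eq, inv_inv] at hy
    rw [smul_eq_mul, show (g * x * g⁻¹ * g)⁻¹ * g = x⁻¹ by group] at hy
    exact inv_mem_iff.1 hy
  have hSM : (S : Subgroup G) ≤ M := sylow_le_normalizer h
  have hJp : IsPGroup 2 ↥(cj g⁻¹ J) := (S.2.to_le (inf_le_left.trans h.le)).map _
  obtain ⟨Q, hQ⟩ := (hJp.comap_of_injective M.subtype M.subtype_injective).exists_le_sylow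
  obtain ⟨m, hm⟩ := MulAction.exists_smul_eq ↥M Q (S.subtype hSM)
  have hin : cj ((m : G) * g⁻¹) J ≤ (S : Subgroup G) := fun x hx => by
    have h1 : (m : G)⁻¹ * x * m ∈ cj g⁻¹ J := mem_cj.2 (by
      have := mem_cj.1 hx
      rwa [show ((m : G) * g⁻¹)⁻¹ * x * ((m : G) * g⁻¹) = (g⁻¹)⁻¹ * ((m : G)⁻¹ * x * m) * g⁻¹ by group] at this)
    have h2 : (⟨_, hJM h1⟩ : ↥M) ∈ (Q : Subgroup ↥M) := hQ h1
    have h3 : MulAut.conj m (⟨_, hJM h1⟩ : ↥M) ∈ ((m • Q : Sylow 2 ↥M) : Subgroup ↥M) := by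
      rw [Sylow.coe_subgroup_smul]
      exact Subgroup.smul_mem_pointwise_smul _ (MulAut.conj m) _ h2
    rw [hm, Sylow.coe_subtype, mem_subgroupOf] at h3
    simpa [mul_assoc] using h3
  have h4 := mem_of_conj h (J := J) inf_le_left (Nat.le_of_not_lt hle) hin
  refine hg (inv_mem_iff.1 ?_)
  have := mul_mem (inv_mem m.2) h4
  rwa [inv_mul_cancel_left] at this

/-- A homomorphism of the normaliser onto the group of order two, nonzero on an element with square in `W`,
gives a subgroup of index two. -/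
theorem index_two_of_hom (h : Core (S : Subgroup G) W) {M : Subgroup G}
    (hM : M = normalizer ((sq W : Subgroup G) : Set G)) (θ : ↥M →* Multiplicative (ZMod 2)) {x : ↥M}
    (hx : (x : G) ∈ (S : Subgroup G)) (hxx : (x : G) * x ∈ W) (hθ : θ x ≠ 1) :
    ∃ H : Subgroup G, H.index = 2 := by
  classical
  haveI : Fintype (G ⧸ M) := Fintype.ofFinite _
  have hmem : ∀ (a : G) (q : G ⧸ M), (a • q).out⁻¹ * a * q.out ∈ M := fun a q => by
    rw [mul_assoc, ← QuotientGroup.eq, QuotientGroup.out_eq']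
    conv_lhs => rw [← QuotientGroup.out_eq' q, MulAction.Quotient.smul_mk]
    rfl
  let c : G → G ⧸ M → ZMod 2 := fun a q => (θ ⟨_, hmem a q⟩).toAdd
  have hc : IsCocycle c := fun a b q => by
    show (θ ⟨_, hmem (a * b) q⟩).toAdd = (θ ⟨_, hmem a (b • q)⟩).toAdd + (θ ⟨_, hmem b q⟩).toAdd
    rw [← toAdd_mul, ← map_mul]
    congr 2
    refine Subtype.ext ?_
    show ((a * b) • q).out⁻¹ * (a * b) * q.out = (a • b • q).out⁻¹ * a * (b • q).out * ((b • q).out⁻¹ * b * q.out)
    rw [mul_smul]; group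
  have hInv : Inv (⊤ : Subgroup G) (Finset.univ : Finset (G ⧸ M)) := fun _ _ _ _ => Finset.mem_univ _
  let V : G →* Multiplicative (ZMod 2) :=
    { toFun := fun g => Multiplicative.ofAdd (tot c Finset.univ g)
      map_one' := by rw [tot_one hc]; rfl
      map_mul' := fun a b => by rw [tot_mul hc hInv a (mem_top b), ofAdd_add] }
  suffices hV : tot c Finset.univ (x : G) ≠ 0 by
    refine ⟨V.ker, ?_⟩
    have hrange : V.range = ⊤ := by
      haveI : Fact (Nat.Prime 2) := ⟨Nat.prime_two⟩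
      have hc2 : Nat.card (Multiplicative (ZMod 2)) = 2 := by simp
      haveI : Fact (Nat.card (Multiplicative (ZMod 2))).Prime := ⟨by rw [hc2]; exact Nat.prime_two⟩
      refine ((V.range.eq_bot_or_eq_top_of_prime_card).resolve_left fun hb => hV ?_)
      have hm : V (x : G) ∈ V.range := ⟨_, rfl⟩
      rw [hb, mem_bot] at hm
      exact ofAdd_eq_one.1 hm
    rw [index_ker, hrange, card_top]
    simp
  set q₀ : G ⧸ M := QuotientGroup.mk 1
  have hfix : ∀ m : ↥M, (m : G) • q₀ = q₀ := fun m => by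
    rw [MulAction.Quotient.smul_mk, QuotientGroup.eq, smul_eq_mul]
    simp
  have hq₀ : q₀.out ∈ M := by
    have := QuotientGroup.out_eq' q₀
    rw [QuotientGroup.eq] at this
    simpa using this
  have hbase : c (x : G) q₀ = (θ x).toAdd := by
    have e : (⟨_, hmem (x : G) q₀⟩ : ↥M) = (⟨q₀.out, hq₀⟩ : ↥M)⁻¹ * x * ⟨q₀.out, hq₀⟩ := Subtype.ext (by
      show ((x : G) • q₀).out⁻¹ * x * q₀.out = q₀.out⁻¹ * x * q₀.out
      rw [hfix x])
    show (θ ⟨_, hmem (x : G) q₀⟩).toAdd = _
    rw [e, map_mul θ, map_mul θ, map_inv θ, mul_comm (θ _)⁻¹, inv_mul_cancel_right]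
  have hWS : ∀ w ∈ W, w ∈ (S : Subgroup G) := fun w hw => h.le hw
  have hn := h.norm _ hx
  have hn' := h.norm _ (inv_mem hx)
  let P : Subgroup G :=
    { carrier := {p | p ∈ W ∨ (x : G)⁻¹ * p ∈ W}
      one_mem' := Or.inl (one_mem _)
      mul_mem' := by
        rintro p r (hp | hp) (hr | hr)
        · exact Or.inl (mul_mem hp hr)
        · refine Or.inr ?_
          have h1 := mul_mem (hn' p hp) hr
          rwa [inv_inv, show (x : G)⁻¹ * p * x * ((x : G)⁻¹ * r) = (x : G)⁻¹ * (p * r) by group] at h1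
        · exact Or.inr (by rw [← mul_assoc]; exact mul_mem hp hr)
        · refine Or.inl ?_
          have h1 := mul_mem (mul_mem (hn _ hp) hxx) hr
          rwa [show (x : G) * ((x : G)⁻¹ * p) * (x : G)⁻¹ * ((x : G) * x) * ((x : G)⁻¹ * r) = p * r by group] at h1
      inv_mem' := by
        rintro p (hp | hp)
        · exact Or.inl (inv_mem hp)
        · refine Or.inr ?_
          have h1 := mul_mem (inv_mem hxx) (hn _ (inv_mem hp))
          rwa [show ((x : G) * x)⁻¹ * ((x : G) * ((x : G)⁻¹ * p)⁻¹ * (x : G)⁻¹) = (x : G)⁻¹ * p⁻¹ by group] at h1 }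
  have hPS : P ≤ (S : Subgroup G) := fun p hp => by
    rcases hp with hp | hp
    · exact hWS p hp
    · have := mul_mem hx (hWS _ hp)
      rwa [mul_inv_cancel_left] at this
  have hPM : P ≤ M := hM ▸ hPS.trans (sylow_le_normalizer h)
  have hPW : ∀ p ∈ P, p * p ∈ W := fun p hp => by
    rcases hp with hp | hp
    · exact mul_mem hp hp
    · have h1 := mul_mem (mul_mem (hn _ hp) hxx) hp
      rwa [show (x : G) * ((x : G)⁻¹ * p) * (x : G)⁻¹ * ((x : G) * x) * ((x : G)⁻¹ * p) = p * p by group] at h1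
  have hrest : tot c (Finset.univ.erase q₀) (x : G) = 0 := by
    refine tot_invariant hc (P := P) (W := W) (S.2.to_le hPS) (fun w hw => Or.inl hw)
      (Or.inr (by rw [inv_mul_cancel]; exact one_mem _)) (fun p hp => h.norm p (hPS hp)) hPW (fun p hp => hp)
      (fun U hU hU8 => le_sq_of_index h.hidx hU hU8) (fun p hp q hq => ?_) fun q hq => ?_
    · refine Finset.mem_erase.2 ⟨fun e => (Finset.mem_erase.1 hq).1 ?_, Finset.mem_univ _⟩
      rw [← inv_smul_smul p q, e]
      exact hfix ⟨p⁻¹, inv_mem (hPM hp)⟩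
    · have hg : q.out ∉ M := fun hg => (Finset.mem_erase.1 hq).1 (by
        rw [← QuotientGroup.out_eq' q, QuotientGroup.eq]
        simpa using hg)
      subst hM
      have := orbit_big h q.out hg
      rwa [QuotientGroup.out_eq'] at this
  rw [tot, ← Finset.add_sum_erase _ _ (Finset.mem_univ q₀), hbase]
  show (θ x).toAdd + tot c (Finset.univ.erase q₀) (x : G) ≠ 0
  rw [hrest, add_zero]
  exact fun e => hθ (toAdd_eq_zero.1 e)

/-- The action of the normaliser on `sq W` is that of the whole linear group. -/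
theorem act_surjective (h : Core (S : Subgroup G) W) (h2 : ∀ H : Subgroup G, H.index ≠ 2) :
    ∃ ρ : ↥(normalizer ((sq W : Subgroup G) : Set G)) →* GL (Fin 3) (ZMod 2), Function.Surjective ρ ∧
      ∀ g, ρ g = 1 ↔ (g : G) ∈ centralizer ((sq W : Subgroup G) : Set G) := by
  classical
  haveI : Fact (Nat.Prime 2) := ⟨Nat.prime_two⟩
  haveI := simple_gl
  obtain ⟨ψ, hψ⟩ := exists_matrix_hom h
  set M := normalizer ((sq W : Subgroup G) : Set G) with hMd
  set act := (sq W).normalizerMonoidHom with hact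
  let ρ : ↥M →* GL (Fin 3) (ZMod 2) := ψ.comp act
  have hρapp : ∀ g g' : ↥M, ρ g = ρ g' → ∀ d ∈ sq W, (g : G) * d * (g : G)⁻¹ = (g' : G) * d * (g' : G)⁻¹ :=
    fun g g' e d hd => congrArg Subtype.val (DFunLike.congr_fun (hψ e) ⟨d, hd⟩ : act g ⟨d, hd⟩ = act g' ⟨d, hd⟩)
  have hker : ∀ g, ρ g = 1 ↔ (g : G) ∈ centralizer ((sq W : Subgroup G) : Set G) := fun g => by
    show ψ (act g) = 1 ↔ _
    rw [map_eq_one_iff ψ hψ, ← MonoidHom.mem_ker, hact, normalizerMonoidHom_ker, mem_subgroupOf]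
  refine ⟨ρ, MonoidHom.range_eq_top.1 ?_, hker⟩
  by_contra hne
  set K := ρ.range with hKd
  have hSM : (S : Subgroup G) ≤ M := sylow_le_normalizer h
  let σS : ↥(S : Subgroup G) →* GL (Fin 3) (ZMod 2) := ρ.comp (inclusion hSM)
  have hσker : σS.ker = W.subgroupOf (S : Subgroup G) := by
    ext t
    rw [MonoidHom.mem_ker, mem_subgroupOf]
    show ρ (inclusion hSM t) = 1 ↔ _
    rw [hker]
    show (t : G) ∈ centralizer _ ↔ _
    exact ⟨fun hc => h.faithful t t.2 fun d hd => (mem_centralizer_iff.1 hc d hd).symm,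
      fun hw => mem_centralizer_iff.2 fun d hd => (h.central t hw d hd).symm⟩
  set T' := σS.range with hTd
  have hT8 : Nat.card T' = 8 := by
    rw [hTd, ← index_ker, hσker]; exact h.index
  have hTK : T' ≤ K := by rintro _ ⟨t, rfl⟩; exact ⟨_, rfl⟩
  -- the order of the image
  obtain ⟨r, hr⟩ : 8 ∣ Nat.card K := hT8 ▸ card_dvd_of_le hTK
  have hKi := K.card_mul_index
  rw [card_gl, hr] at hKi
  have hr21 : r * K.index = 21 := by
    have : 8 * (r * K.index) = 8 * 21 := by rw [← mul_assoc, hKi]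
    omega
  have hrd : r ∈ Nat.divisors 21 := Nat.mem_divisors.2 ⟨⟨_, hr21.symm⟩, by norm_num⟩
  rw [show Nat.divisors 21 = {1, 3, 7, 21} by decide] at hrd
  simp only [Finset.mem_insert, Finset.mem_singleton] at hrd
  have hr13 : r = 1 ∨ r = 3 := by
    rcases hrd with e | e | e | e
    · exact Or.inl e
    · exact Or.inr e
    · exfalso
      subst e
      have hK3 : K.index = 3 := by omega
      have hbot : (MulAction.toPermHom (GL (Fin 3) (ZMod 2)) (GL (Fin 3) (ZMod 2) ⧸ K)).ker = ⊥ := by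
        refine ((inferInstance : (MulAction.toPermHom (GL (Fin 3) (ZMod 2)) (GL (Fin 3) (ZMod 2) ⧸ K)).ker.Normal).eq_bot_or_eq_top).resolve_right fun ht => ?_
        refine hne (eq_top_iff.2 fun g _ => ?_)
        have h1 := DFunLike.congr_fun (MonoidHom.mem_ker.1 (ht.symm ▸ mem_top g)) (QuotientGroup.mk 1)
        simpa [MulAction.toPermHom_apply, MulAction.toPerm_apply, QuotientGroup.eq] using h1
      have h1 := card_dvd_of_injective _ ((MonoidHom.ker_eq_bot_iff _).1 hbot)
      rw [card_gl, Nat.card_perm, ← Subgroup.index_eq_card, hK3] at h1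
      revert h1; decide
    · exfalso
      subst e
      have hK1 : K.index = 1 := by omega
      exact hne (index_eq_one.1 hK1)
  -- a homomorphism onto the group of order two, nontrivial on the image of `S`
  obtain ⟨θ₀, hθ₀⟩ : ∃ θ₀ : ↥K →* Multiplicative (ZMod 2), ∃ t, ∃ ht : t ∈ T', θ₀ ⟨t, hTK ht⟩ ≠ 1 := by
    have hsign : ∀ (θ₁ : ↥K →* ℤˣ), (∃ t, ∃ ht : t ∈ T', θ₁ ⟨t, hTK ht⟩ ≠ 1) →
        ∃ θ₀ : ↥K →* Multiplicative (ZMod 2), ∃ t, ∃ ht : t ∈ T', θ₀ ⟨t, hTK ht⟩ ≠ 1 := by
      rintro θ₁ ⟨t, ht, hne'⟩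
      haveI : IsCyclic ℤˣ := isCyclic_of_prime_card (p := 2) (by rw [Nat.card_eq_fintype_card]; rfl)
      haveI : IsCyclic (Multiplicative (ZMod 2)) := inferInstance
      refine ⟨(mulEquivOfCyclicCardEq (G := ℤˣ) (G' := Multiplicative (ZMod 2))
        (by rw [Nat.card_eq_fintype_card, Nat.card_eq_fintype_card]; rfl)).toMonoidHom.comp θ₁, t, ht, ?_⟩
      intro e
      rw [MonoidHom.comp_apply, MulEquiv.coe_toMonoidHom, MulEquiv.map_eq_one_iff] at e
      exact hne' e
    rcases hr13 with rfl | rfl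
    · have hK8 : Nat.card K = 2 ^ 3 := by rw [hr]; norm_num
      have hTK' : T' = K := eq_of_le_of_card_ge hTK (by rw [hT8, hK8]; norm_num)
      obtain ⟨M', -, hM'⟩ := Cfsg.Lib.Known.SylowTwoMax.exists_index_two (IsPGroup.of_card hK8)
        (show (⊥ : Subgroup ↥K) ≠ ⊤ from fun e => by
          have := congrArg (fun U : Subgroup ↥K => Nat.card U) e
          simp only [card_bot, card_top] at this
          omega)
      haveI : M'.Normal := normal_of_index_eq_two hM'
      obtain ⟨⟨t, ht⟩, htM⟩ : ∃ t : ↥K, t ∉ M' := SetLike.exists_not_mem_of_ne_top M'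
        (fun e => by rw [e, index_top] at hM'; omega) rfl
      haveI : IsCyclic (↥K ⧸ M') := isCyclic_of_prime_card (p := 2) (by rw [← Subgroup.index_eq_card, hM'])
      refine ⟨(mulEquivOfCyclicCardEq (G := ↥K ⧸ M') (G' := Multiplicative (ZMod 2))
        (by rw [← Subgroup.index_eq_card, hM']; simp)).toMonoidHom.comp (QuotientGroup.mk' M'), t, hTK'.symm ▸ ht, ?_⟩
      intro e
      rw [MonoidHom.comp_apply, MulEquiv.coe_toMonoidHom, MulEquiv.map_eq_one_iff] at e
      exact htM ((QuotientGroup.eq_one_iff _).1 e)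
    · set U := T'.subgroupOf K
      have hU3 : U.index = 3 := by
        have := U.card_mul_index
        rw [Nat.card_congr (subgroupOfEquivOfLe hTK).toEquiv, hT8, hr] at this
        omega
      haveI : Fintype (↥K ⧸ U) := Fintype.ofFinite _
      set π := MulAction.toPermHom ↥K (↥K ⧸ U)
      by_cases hodd : ∃ t, ∃ ht : t ∈ T', Equiv.Perm.sign (π ⟨t, hTK ht⟩) ≠ 1
      · exact hsign (Equiv.Perm.sign.comp π) hodd
      push Not at hodd
      exfalso
      -- the image of `S` would be normal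
      have hker' : U ≤ π.ker := fun t ht => by
        have hs := hodd t (mem_subgroupOf.1 ht)
        have hfixb : π t (QuotientGroup.mk 1) = QuotientGroup.mk 1 := by
          show t • (QuotientGroup.mk 1 : ↥K ⧸ U) = QuotientGroup.mk 1
          rw [MulAction.Quotient.smul_mk, QuotientGroup.eq, smul_eq_mul]
          simpa using inv_mem ht
        have hcard : Fintype.card (↥K ⧸ U) = 3 := by rw [← Nat.card_eq_fintype_card, ← Subgroup.index_eq_card, hU3]
        refine MonoidHom.mem_ker.2 ?_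
        obtain ⟨e⟩ : Nonempty (↥K ⧸ U ≃ Fin 3) := ⟨Fintype.equivFinOfCardEq hcard⟩
        have hs' : Equiv.Perm.sign (e.permCongr (π t)) = 1 := by rw [Equiv.Perm.sign_permCongr]; exact hs
        have hf' : e.permCongr (π t) (e (QuotientGroup.mk 1)) = e (QuotientGroup.mk 1) := by simp [hfixb]
        have key : ∀ (p : Equiv.Perm (Fin 3)) (i : Fin 3), Equiv.Perm.sign p = 1 → p i = i → p = 1 := by decide
        have h1 := key _ _ hs' hf'
        ext y
        have h2 := DFunLike.congr_fun h1 (e y)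
        simpa using h2
      have hUn : U = π.ker := le_antisymm hker' fun k hk => by
        have h1 := DFunLike.congr_fun (MonoidHom.mem_ker.1 hk) (QuotientGroup.mk 1 : ↥K ⧸ U)
        have h2 : (QuotientGroup.mk (k * 1) : ↥K ⧸ U) = QuotientGroup.mk 1 := h1
        rw [QuotientGroup.eq] at h2
        simpa using h2
      have hnorm : ∀ (g : ↥M) (t : G) (ht : t ∈ (S : Subgroup G)), ∃ t' ∈ (S : Subgroup G), ∀ d ∈ sq W,
          ((g : G)⁻¹ * t * g) * d * ((g : G)⁻¹ * t * g)⁻¹ = t' * d * t'⁻¹ := by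
        intro g t ht
        have hUN : U.Normal := hUn ▸ π.normal_ker
        have h1 := hUN.conj_mem ⟨σS ⟨t, ht⟩, hTK ⟨_, rfl⟩⟩ (mem_subgroupOf.2 ⟨_, rfl⟩) ⟨ρ g⁻¹, ⟨g⁻¹, rfl⟩⟩
        obtain ⟨t', ht'⟩ := mem_subgroupOf.1 h1
        refine ⟨t', t'.2, fun d hd => ?_⟩
        have e : ρ (g⁻¹ * ⟨t, hSM ht⟩ * g) = ρ (inclusion hSM t') := by
          rw [map_mul, map_mul]
          refine Eq.trans ?_ ht'.symm
          simp only [Subgroup.coe_mul, Subgroup.coe_inv, map_inv, inv_inv]
          rfl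
        exact hρapp _ _ e d hd
      obtain ⟨z₁, z₂, z₃, h1, h2', h3, n1, n2, n21, hcl, hz1, hall, hfix1, hfix2, hz2m, hz3n, hcos⟩ := h.flag
      have hDg : ∀ g : ↥M, ∀ d ∈ sq W, (g : G) * d * (g : G)⁻¹ ∈ sq W := fun g d hd => (mem_normalizer_iff.1 g.2 d).1 hd
      have hKT : K ≤ T' := by
        rintro _ ⟨g, rfl⟩
        have hinj : ∀ d : G, (g : G) * d * (g : G)⁻¹ = 1 → d = 1 := fun d e => by
          simpa [mul_assoc] using congrArg (fun y => (g : G)⁻¹ * y * g) e
        have hg1 : (g : G) * z₁ * (g : G)⁻¹ = z₁ := by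
          refine (hfix1 _ (hDg g z₁ h1) fun t ht => ?_).resolve_left fun e => n1 (hinj _ e)
          obtain ⟨t', ht', e⟩ := hnorm g t ht
          have e1 := e z₁ h1
          rw [hz1 t' ht', mul_inv_cancel_right] at e1
          calc t * ((g : G) * z₁ * (g : G)⁻¹) = (g : G) * (((g : G)⁻¹ * t * g) * z₁ * ((g : G)⁻¹ * t * g)⁻¹) * (g : G)⁻¹ * t := by group
            _ = _ := by rw [e1]
        have hg2 : ∃ e ∈ ({1, z₁} : Set G), (g : G) * z₂ * (g : G)⁻¹ = e * z₂ := by
          have hz : (g : G) * z₂ * (g : G)⁻¹ ∈ ({1, z₁, z₂, z₁ * z₂} : Set G) := by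
            refine hfix2 _ (hDg g z₂ h2') fun t ht => ?_
            obtain ⟨t', ht', e⟩ := hnorm g t ht
            have e1 := e z₂ h2'
            have e2 : t * ((g : G) * z₂ * (g : G)⁻¹) * t⁻¹ * ((g : G) * z₂ * (g : G)⁻¹)⁻¹ =
                (g : G) * (t' * z₂ * t'⁻¹ * z₂⁻¹) * (g : G)⁻¹ := by rw [← e1]; group
            rw [e2]
            rcases hz2m t' ht' with e3 | e3 <;> rw [e3]
            · left; group
            · right; exact hg1
          rcases hz with e | e | e | e
          · exact absurd (hinj _ e) n2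
          · refine absurd ?_ n21
            have := congrArg (fun y => (g : G)⁻¹ * y * g) (e.trans hg1.symm)
            simpa [mul_assoc] using this
          · exact ⟨1, by simp, by rw [one_mul]; exact e⟩
          · exact ⟨z₁, by simp, e⟩
        have hset : ∀ y ∈ ({1, z₁, z₂, z₁ * z₂} : Set G), (g : G) * y * (g : G)⁻¹ ∈ ({1, z₁, z₂, z₁ * z₂} : Set G) := by
          obtain ⟨e, he, hg2⟩ := hg2
          intro y hy
          rcases hy with e1 | e1 | e1 | e1 <;> rw [e1]
          · left; group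
          · rw [hg1]; simp
          · rw [hg2]; rcases he with he' | he' <;> rw [he'] <;> simp
          · rw [show (g : G) * (z₁ * z₂) * (g : G)⁻¹ = (g : G) * z₁ * (g : G)⁻¹ * ((g : G) * z₂ * (g : G)⁻¹) by group, hg1, hg2]
            rcases he with he' | he' <;> rw [he']
            · simp
            · rw [← mul_assoc, h.exp z₁ h1]; simp
        have hbij : Set.SurjOn (fun y => (g : G) * y * (g : G)⁻¹) ({1, z₁, z₂, z₁ * z₂} : Set G) ({1, z₁, z₂, z₁ * z₂} : Set G) :=
          ((Set.toFinite _).injOn_iff_bijOn_of_mapsTo hset).1 (fun y _ y' _ e => by simpa using e) |>.surjOn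
        obtain ⟨e', he', hg3⟩ : ∃ e' ∈ ({1, z₁, z₂, z₁ * z₂} : Set G), (g : G) * z₃ * (g : G)⁻¹ = e' * z₃ := by
          rcases hcos _ (hDg g z₃ h3) with hy | hy
          · obtain ⟨y, hy', e⟩ := hbij hy
            have : y = z₃ := by simpa using e
            exact absurd (this ▸ hy') hz3n
          · refine ⟨_, hy, ?_⟩
            have hc : z₃⁻¹ * ((g : G) * z₃ * (g : G)⁻¹) * z₃ = z₃ * (z₃⁻¹ * ((g : G) * z₃ * (g : G)⁻¹)) :=
              h.central _ (mul_mem (inv_mem (sq_le h3)) (sq_le (hDg g z₃ h3))) z₃ h3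
            rw [hc, mul_inv_cancel_left]
        obtain ⟨e, he, hg2⟩ := hg2
        obtain ⟨t, ht, ht2, ht3⟩ := hall e he e' he'
        refine ⟨⟨t, ht⟩, ?_⟩
        show ψ (act (inclusion hSM ⟨t, ht⟩)) = ψ (act g)
        congr 1
        refine MulEquiv.ext fun d => Subtype.ext ?_
        show t * (d : G) * t⁻¹ = (g : G) * d * (g : G)⁻¹
        have hle : sq W ≤ centralizer ({(g : G)⁻¹ * t} : Set G) := hcl.trans ((closure_le _).2 (by
          have hone : ∀ z : G, t * z * t⁻¹ = (g : G) * z * (g : G)⁻¹ → z ∈ centralizer ({(g : G)⁻¹ * t} : Set G) :=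
            fun z e => by
            refine mem_centralizer_singleton_iff.2 ?_
            calc z * ((g : G)⁻¹ * t) = (g : G)⁻¹ * ((g : G) * z * (g : G)⁻¹) * t := by group
              _ = (g : G)⁻¹ * (t * z * t⁻¹) * t := by rw [e]
              _ = _ := by group
          rintro z (rfl | rfl | rfl)
          · exact hone _ (by rw [hg1, hz1 t ht, mul_inv_cancel_right])
          · exact hone _ (by rw [ht2, hg2])
          · exact hone _ (by rw [ht3, hg3])))
        calc t * (d : G) * t⁻¹ = (g : G) * (((g : G)⁻¹ * t) * d) * t⁻¹ := by group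
          _ = (g : G) * ((d : G) * ((g : G)⁻¹ * t)) * t⁻¹ := by rw [← mem_centralizer_singleton_iff.1 (hle d.2)]
          _ = _ := by group
      have := card_le_of_le hKT
      rw [hr, hT8] at this
      omega
  -- transfer
  obtain ⟨t, ht, hθt⟩ := hθ₀
  obtain ⟨a, ha, b, hb, haa, hbb, -, hgen⟩ := exists_gens h
  let θ : ↥M →* Multiplicative (ZMod 2) := θ₀.comp ρ.rangeRestrict
  by_cases hab : θ ⟨a, hSM ha⟩ = 1 ∧ θ ⟨b, hSM hb⟩ = 1
  · obtain ⟨s, rfl⟩ := ht
    refine hθt ?_
    have hW1 : W ≤ θ.ker.map M.subtype := fun w hw => ⟨⟨w, hSM (h.le hw)⟩, by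
      rw [SetLike.mem_coe, MonoidHom.mem_ker]
      show θ₀ (ρ.rangeRestrict _) = 1
      rw [show ρ.rangeRestrict ⟨w, hSM (h.le hw)⟩ = 1 from Subtype.ext ((hker _).2
        (mem_centralizer_iff.2 fun d hd => (h.central w hw d hd).symm)), map_one], rfl⟩
    obtain ⟨m, hm, e⟩ := hgen _ hW1 ⟨_, hab.1, rfl⟩ ⟨_, hab.2, rfl⟩ s.2
    have hms : m = inclusion hSM s := Subtype.ext e
    subst hms
    exact hm
  · rcases not_and_or.1 hab with hn | hn
    · obtain ⟨H, hH⟩ := index_two_of_hom h rfl θ (x := ⟨a, hSM ha⟩) ha haa hn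
      exact h2 H hH
    · obtain ⟨H, hH⟩ := index_two_of_hom h rfl θ (x := ⟨b, hSM hb⟩) hb hbb hn
      exact h2 H hH

end Cfsg.Lib.RuSylow
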