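import Cfsg.Agent.RuSylow.Fusion
import Cfsg.Agent.RuSylow.Aut
import Cfsg.Agent.Components.Local

/-!
Elements of odd order of the normaliser of `W` centralising `sq W` centralise `W`.
-/

set_option autoImplicit false
set_option linter.style.haveILetI false
set_option linter.unusedSectionVars false

namespace Cfsg.Lib.RuSylow

open Subgroup
open scoped commutatorElement

universe u v

variable {G : Type u} [Group G] [Finite G] {S : Sylow 2 G} {W : Subgroup G}

theorem gl_not_comm : ∃ x y : GL (Fin 3) (ZMod 2), x * y ≠ y * x := by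
  by_contra h
  push Not at h
  haveI := simple_gl
  letI : CommGroup (GL (Fin 3) (ZMod 2)) := { (inferInstance : Group (GL (Fin 3) (ZMod 2))) with mul_comm := h }
  have := IsSimpleGroup.prime_card (α := GL (Fin 3) (ZMod 2))
  rw [card_gl] at this
  norm_num at this

/-- Upper triangular. -/
def IsUpper (g : Matrix (Fin 3) (Fin 3) (ZMod 2)) : Prop := g 1 0 = 0 ∧ g 2 0 = 0 ∧ g 2 1 = 0

theorem upper_pow {g : Matrix (Fin 3) (Fin 3) (ZMod 2)} (h : IsUpper g) (n : ℕ) : IsUpper (g ^ n) := by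
  induction n with
  | zero => refine ⟨?_, ?_, ?_⟩ <;> simp
  | succ n ih =>
    obtain ⟨a1, a2, a3⟩ := h
    obtain ⟨b1, b2, b3⟩ := ih
    rw [pow_succ]
    refine ⟨?_, ?_, ?_⟩ <;> simp [Matrix.mul_apply, Fin.sum_univ_three, a1, a2, a3, b1, b2, b3]

theorem upper_det : ∀ x y z p q s : ZMod 2, (!![p, x, y; 0, q, z; 0, 0, s] : Matrix (Fin 3) (Fin 3) (ZMod 2)).det ≠ 0 →
    (!![p, x, y; 0, q, z; 0, 0, s] : Matrix (Fin 3) (Fin 3) (ZMod 2)) ^ 2 ^ 3 = 1 := by decide +kernel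

/-- The upper triangular subgroup. -/
def upperGroup : Subgroup (GL (Fin 3) (ZMod 2)) where
  carrier := {g | IsUpper (g : Matrix (Fin 3) (Fin 3) (ZMod 2))}
  one_mem' := by show IsUpper _; refine ⟨?_, ?_, ?_⟩ <;> simp
  mul_mem' := fun {g g'} hg hg' => by
    obtain ⟨a1, a2, a3⟩ := hg
    obtain ⟨b1, b2, b3⟩ := hg'
    refine ⟨?_, ?_, ?_⟩ <;> simp [Matrix.mul_apply, Fin.sum_univ_three, a1, a2, a3, b1, b2, b3]
  inv_mem' := fun {g} hg => by
    have h1 : g ^ (167 + 1) = 1 := by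
      rw [show 167 + 1 = Nat.card (GL (Fin 3) (ZMod 2)) by rw [card_gl]]
      exact pow_card_eq_one'
    have h2 : g⁻¹ = g ^ 167 := inv_eq_of_mul_eq_one_right (by rw [← pow_succ', h1])
    show IsUpper _
    rw [h2, Units.val_pow_eq_pow_val]
    exact upper_pow hg 167

/-- A transvection. -/
def glA : GL (Fin 3) (ZMod 2) :=
  ⟨!![1, 1, 0; 0, 1, 0; 0, 0, 1], !![1, 1, 0; 0, 1, 0; 0, 0, 1], by decide, by decide⟩

/-- Another transvection. -/
def glB : GL (Fin 3) (ZMod 2) :=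
  ⟨!![1, 0, 0; 0, 1, 1; 0, 0, 1], !![1, 0, 0; 0, 1, 1; 0, 0, 1], by decide, by decide⟩

theorem gl_sylow_not_comm (Q : Sylow 2 (GL (Fin 3) (ZMod 2))) :
    ∃ x ∈ (Q : Subgroup (GL (Fin 3) (ZMod 2))), ∃ y ∈ (Q : Subgroup (GL (Fin 3) (ZMod 2))), x * y ≠ y * x := by
  haveI : Fact (Nat.Prime 2) := ⟨Nat.prime_two⟩
  have hU2 : IsPGroup 2 upperGroup := by
    intro g
    refine ⟨3, Subtype.ext ?_⟩
    obtain ⟨g, hg⟩ := g
    refine Units.ext ?_
    obtain ⟨a1, a2, a3⟩ := hg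
    have e : (g : Matrix (Fin 3) (Fin 3) (ZMod 2)) = !![g.1 0 0, g.1 0 1, g.1 0 2; 0, g.1 1 1, g.1 1 2; 0, 0, g.1 2 2] := by
      ext i j; fin_cases i <;> fin_cases j <;> simp [a1, a2, a3]
    have hdet : (g : Matrix (Fin 3) (Fin 3) (ZMod 2)).det ≠ 0 :=
      ((Matrix.isUnit_iff_isUnit_det _).1 g.isUnit).ne_zero
    show (g : Matrix (Fin 3) (Fin 3) (ZMod 2)) ^ 2 ^ 3 = 1
    rw [e] at hdet ⊢
    exact upper_det _ _ _ _ _ _ hdet
  obtain ⟨Q', hQ'⟩ := hU2.exists_le_sylow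
  obtain ⟨w, hw⟩ := MulAction.exists_smul_eq (GL (Fin 3) (ZMod 2)) Q' Q
  have hmem : ∀ x ∈ upperGroup, w * x * w⁻¹ ∈ (Q : Subgroup (GL (Fin 3) (ZMod 2))) := fun x hx => by
    rw [← hw, Sylow.coe_subgroup_smul]
    exact Subgroup.smul_mem_pointwise_smul _ (MulAut.conj w) _ (hQ' hx)
  refine ⟨_, hmem glA (by show IsUpper _; exact ⟨rfl, rfl, rfl⟩), _, hmem glB (by show IsUpper _; exact ⟨rfl, rfl, rfl⟩), fun e => ?_⟩
  have e' : glA * glB = glB * glA := by
    have := congrArg (fun x => w⁻¹ * x * w) e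
    simpa [mul_assoc] using this
  have e'' := congrArg Units.val e'
  revert e''
  decide

theorem card_aut_eight_dvd {r k : ℕ} (hr : r.Prime) (hr2 : r ≠ 2) (hk : 3 ≤ k)
    (h : r ^ k ∣ ∏ i ∈ Finset.range 8, (2 ^ 8 - 2 ^ i)) : r = 3 ∧ k ≤ 5 := by
  have hN : (∏ i ∈ Finset.range 8, (2 ^ 8 - 2 ^ i)) = 2 ^ 28 * 3 ^ 5 * 5 ^ 2 * 7 ^ 2 * 17 * 31 * 127 := by
    decide +kernel
  rw [hN] at h
  have h2 : Nat.Coprime (r ^ k) (2 ^ 28) := Nat.Coprime.pow _ _ ((Nat.coprime_primes hr Nat.prime_two).2 hr2)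
  by_cases h3 : r = 3
  · refine ⟨h3, ?_⟩
    subst h3
    by_contra hlt
    have h6 : 3 ^ 6 ∣ 2 ^ 28 * 3 ^ 5 * 5 ^ 2 * 7 ^ 2 * 17 * 31 * 127 := (pow_dvd_pow 3 (by omega)).trans h
    revert h6; decide +kernel
  exfalso
  have h' : r ^ k ∣ 5 ^ 2 * 7 ^ 2 * (17 * 31 * 127) := by
    have hc : Nat.Coprime (r ^ k) (2 ^ 28 * 3 ^ 5) :=
      Nat.Coprime.mul_right h2 (Nat.Coprime.pow _ _ ((Nat.coprime_primes hr Nat.prime_three).2 h3))
    refine hc.dvd_of_dvd_mul_left ?_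
    refine h.trans (dvd_of_eq ?_)
    norm_num
  have h3' : r ^ 3 ∣ 5 ^ 2 * 7 ^ 2 * (17 * 31 * 127) := (pow_dvd_pow r hk).trans h'
  have hmem : r ∣ 5 ^ 2 * 7 ^ 2 * (17 * 31 * 127) := (dvd_pow_self r (by norm_num)).trans h3'
  rcases (Nat.Prime.dvd_mul hr).1 hmem with h5 | h5
  · rcases (Nat.Prime.dvd_mul hr).1 h5 with h5 | h5
    · rw [(Nat.prime_dvd_prime_iff_eq hr (by norm_num)).1 (hr.dvd_of_dvd_pow h5)] at h3'
      norm_num at h3'
    · rw [(Nat.prime_dvd_prime_iff_eq hr (by norm_num)).1 (hr.dvd_of_dvd_pow h5)] at h3'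
      norm_num at h3'
  · rcases (Nat.Prime.dvd_mul hr).1 h5 with h5 | h5
    · rcases (Nat.Prime.dvd_mul hr).1 h5 with h5 | h5
      · rw [(Nat.prime_dvd_prime_iff_eq hr (by norm_num)).1 h5] at h3'
        norm_num at h3'
      · rw [(Nat.prime_dvd_prime_iff_eq hr (by norm_num)).1 h5] at h3'
        norm_num at h3'
    · rw [(Nat.prime_dvd_prime_iff_eq hr (by norm_num)).1 h5] at h3'
      norm_num at h3'

/-- A group over `GL(3, 2)` with kernel of odd order has its 2-subgroups centralise a small elementary abelian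
group on which it acts. -/
theorem two_kills {N : Type v} [Group N] [Finite N] (η : N →* GL (Fin 3) (ZMod 2)) (hη : Function.Surjective η)
    (hker : Odd (Nat.card η.ker)) {Z : Type v} [Group Z] [Finite Z] [IsMulCommutative Z] {r d : ℕ} (hr : r.Prime)
    (hr2 : r ≠ 2) (hexp : ∀ x : Z, x ^ r = 1) (hd : Nat.card Z = r ^ d)
    (hsmall : d ≤ 2 ∨ r = 3 ∧ d ≤ 5) (κ : N →* MulAut Z) (P : Sylow 2 N) : (P : Subgroup N) ≤ κ.ker := by
  classical
  haveI : Fact (Nat.Prime 2) := ⟨Nat.prime_two⟩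
  haveI : Fact r.Prime := ⟨hr⟩
  haveI := simple_gl
  haveI : (κ.ker.map η).Normal := κ.normal_ker.map η hη
  have hcP : Nat.card (P : Subgroup N) = 8 := by
    have hN : Nat.card N = Nat.card η.ker * 168 := by
      rw [← η.ker.card_mul_index, index_ker, MonoidHom.range_eq_top.2 hη, card_top, card_gl]
    rw [P.card_eq_multiplicity, hN, Nat.factorization_mul Nat.card_pos.ne' (by norm_num), Finsupp.add_apply,
      Nat.factorization_eq_zero_of_not_dvd hker.not_two_dvd_nat, zero_add,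
      show Nat.factorization 168 2 = 3 by
        rw [show (168 : ℕ) = 2 ^ 3 * 21 by norm_num, Nat.factorization_mul (by norm_num) (by norm_num),
          Finsupp.add_apply, Nat.Prime.factorization_pow Nat.prime_two, Finsupp.single_eq_same,
          Nat.factorization_eq_zero_of_not_dvd (by norm_num)]]
    norm_num
  rcases (inferInstance : (κ.ker.map η).Normal).eq_bot_or_eq_top with hb | ht
  swap
  · -- the image has odd order
    intro p hp
    obtain ⟨p', hp', e⟩ : η p ∈ κ.ker.map η := ht ▸ mem_top _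
    obtain ⟨j, hj⟩ := IsPGroup.iff_orderOf.1 P.2 ⟨p, hp⟩
    rw [orderOf_mk] at hj
    refine MonoidHom.mem_ker.2 ?_
    have h1 : p'⁻¹ * p ∈ η.ker := by rw [MonoidHom.mem_ker, map_mul, map_inv, e, inv_mul_cancel]
    have h2 : κ p = κ (p'⁻¹ * p) := by rw [map_mul, map_inv, MonoidHom.mem_ker.1 hp', inv_one, one_mul]
    refine orderOf_eq_one_iff.1 (Nat.eq_one_of_dvd_coprimes ?_ (orderOf_map_dvd κ p)
      (show orderOf (κ p) ∣ Nat.card η.ker from ?_))
    · rw [hj]; exact (Nat.coprime_two_left.2 hker).pow_left j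
    · rw [h2]; exact (orderOf_map_dvd κ _).trans (Subgroup.orderOf_dvd_natCard _ h1)
  exfalso
  have hkle : κ.ker ≤ η.ker := (Subgroup.map_eq_bot_iff _).1 hb
  have hI : 168 ∣ Nat.card (MulAut Z) := by
    have h1 : η.range = ⊤ := MonoidHom.range_eq_top.2 hη
    have h2 : Nat.card η.range ∣ Nat.card κ.range := by
      rw [← index_ker, ← index_ker]; exact index_dvd_of_le hkle
    rw [h1, card_top, card_gl] at h2
    exact h2.trans (card_subgroup_dvd_card _)
  have hdvd := hI.trans (card_mulAut_dvd hexp hd)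
  have hPinj : ∀ p ∈ (P : Subgroup N), η p = 1 → p = 1 := fun p hp e => by
    obtain ⟨j, hj⟩ := IsPGroup.iff_orderOf.1 P.2 ⟨p, hp⟩
    rw [orderOf_mk] at hj
    refine orderOf_eq_one_iff.1 (Nat.eq_one_of_dvd_coprimes (b := Nat.card η.ker) ?_ (dvd_refl _)
      (Subgroup.orderOf_dvd_natCard _ (MonoidHom.mem_ker.2 e)))
    rw [hj]; exact (Nat.coprime_two_left.2 hker).pow_left j
  rcases Nat.lt_or_ge 2 d with hd2 | hd2
  · obtain ⟨rfl, hd5⟩ := hsmall.resolve_left (by omega)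
    have h7 : 7 ∣ ∏ i ∈ Finset.range d, (3 ^ d - 3 ^ i) := (show 7 ∣ 168 by norm_num).trans hdvd
    revert h7
    interval_cases d <;> decide +kernel
  -- small rank
  have hna : ∃ x y : (P : Subgroup N), x * y ≠ y * x := by
    by_contra hc
    push Not at hc
    -- a Sylow subgroup of `GL(3, 2)` is not commutative
    obtain ⟨x, hx, y, hy, hxy⟩ := gl_sylow_not_comm (P.mapSurjective hη)
    obtain ⟨x', hx', rfl⟩ := (hx : x ∈ (P : Subgroup N).map η)
    obtain ⟨y', hy', rfl⟩ := (hy : y ∈ (P : Subgroup N).map η)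
    refine hxy ?_
    rw [← map_mul, ← map_mul]
    exact congrArg η (congrArg Subtype.val (hc ⟨x', hx'⟩ ⟨y', hy'⟩))
  obtain ⟨a, b, c, hab, hc2, hc1, hca, hcb⟩ := order_eight hcP hna
  have hκ : ∀ x y : (P : Subgroup N), κ x = κ y → x = y := fun x y e => by
    have h1 : (y⁻¹ * x : (P : Subgroup N)).1 ∈ κ.ker := by
      rw [MonoidHom.mem_ker, Subgroup.coe_mul, map_mul, Subgroup.coe_inv, map_inv, e, inv_mul_cancel]
    exact (inv_mul_eq_one.1 (Subtype.ext (hPinj _ (y⁻¹ * x).2 (hkle h1)))).symm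
  have hc : ∀ δ : MulAut Z, κ c * δ = δ * κ c := by
    refine aut_rank_two (r := r) hr2 ?_ hexp (α := κ a) (β := κ b) (fun e => hab (hκ _ _ ?_)) ?_
      (fun e => hc1 (hκ c 1 (by rw [e, OneMemClass.coe_one, map_one]))) ?_ ?_
    · rw [hd]; exact pow_dvd_pow r hd2
    · rw [Subgroup.coe_mul, Subgroup.coe_mul, map_mul, map_mul, e]
    · rw [← map_mul, ← Subgroup.coe_mul, hc2, OneMemClass.coe_one, map_one]
    · rw [← map_mul, ← map_mul, ← Subgroup.coe_mul, ← Subgroup.coe_mul, hca]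
    · rw [← map_mul, ← map_mul, ← Subgroup.coe_mul, ← Subgroup.coe_mul, hcb]
  have hz : η c ∈ center (GL (Fin 3) (ZMod 2)) := by
    refine mem_center_iff.2 fun g => ?_
    obtain ⟨n, rfl⟩ := hη g
    have h1 : ⁅n, (c : N)⁆ ∈ κ.ker := by
      rw [MonoidHom.mem_ker, map_commutatorElement, commutatorElement_eq_one_iff_mul_comm]
      exact (hc _).symm
    have h2 := hkle h1
    rw [MonoidHom.mem_ker, map_commutatorElement, commutatorElement_eq_one_iff_mul_comm] at h2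
    exact h2
  rcases (inferInstance : (center (GL (Fin 3) (ZMod 2))).Normal).eq_bot_or_eq_top with hzb | hzt
  · rw [hzb, mem_bot] at hz
    exact hc1 (Subtype.ext (hPinj _ c.2 hz))
  · obtain ⟨x, y, hxy⟩ := gl_not_comm
    exact hxy (mem_center_iff.1 (hzt ▸ mem_top y) x)

set_option maxHeartbeats 1600000 in
/-- Elements of odd order normalising `W` and centralising `sq W` centralise `W`. -/
theorem odd_centralizes (h : Core (S : Subgroup G) W) {ρ : ↥(normalizer ((sq W : Subgroup G) : Set G)) →* GL (Fin 3) (ZMod 2)}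
    (hρ : Function.Surjective ρ) (hρk : ∀ g, ρ g = 1 ↔ (g : G) ∈ centralizer ((sq W : Subgroup G) : Set G))
    (hsup : ∀ g ∈ normalizer ((sq W : Subgroup G) : Set G),
      ∃ n ∈ normalizer ((W : Subgroup G) : Set G), n⁻¹ * g ∈ centralizer ((sq W : Subgroup G) : Set G))
    {k : G} (hk : k ∈ normalizer ((W : Subgroup G) : Set G)) (hkD : k ∈ centralizer ((sq W : Subgroup G) : Set G))
    (hodd : Odd (orderOf k)) : k ∈ centralizer ((W : Subgroup G) : Set G) := by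
  classical
  haveI : Fact (Nat.Prime 2) := ⟨Nat.prime_two⟩
  let D := sq W
  have hDd : D = sq W := rfl
  let N := normalizer ((W : Subgroup G) : Set G)
  have hNM : N ≤ normalizer (D : Set G) := fun n hn => by
    refine mem_normalizer_iff_map_conj_eq.2 ?_
    rw [hDd, map_sq, mem_normalizer_iff_map_conj_eq.1 hn]
  have hSN : (S : Subgroup G) ≤ N := fun t ht => by
    refine mem_normalizer_iff.2 fun w => ⟨h.norm t ht w, fun hw => ?_⟩
    have := h.norm t⁻¹ (inv_mem ht) _ hw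
    rwa [show t⁻¹ * (t * w * t⁻¹) * t⁻¹⁻¹ = w by group] at this
  haveI hDn : (D.subgroupOf W).Normal := ⟨fun d hd w => mem_subgroupOf.2 (by
    show (w : G) * d * (w : G)⁻¹ ∈ D
    rw [h.central w w.2 d (mem_subgroupOf.1 hd), mul_inv_cancel_right]
    exact mem_subgroupOf.1 hd)⟩
  have hcommV : IsMulCommutative (↥W ⧸ D.subgroupOf W) := Subgroup.Normal.quotient_commutative_iff_commutator_le.2 (by
    rw [_root_.commutator_def, commutator_le]
    exact fun x _ y _ => mem_subgroupOf.2 (comm_mem_sq x.2 y.2))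
  letI : CommGroup (↥W ⧸ D.subgroupOf W) := { (inferInstance : Group (↥W ⧸ D.subgroupOf W)) with mul_comm := hcommV.is_comm.comm }
  set π := QuotientGroup.mk' (D.subgroupOf W)
  let act := W.normalizerMonoidHom
  have hmapD : ∀ n : ↥N, (D.subgroupOf W).map (act n).toMonoidHom = D.subgroupOf W := fun n => by
    refine eq_of_le_of_card_ge ?_ (Subgroup.card_map_of_injective (f := (act n).toMonoidHom) (act n).injective).ge
    rintro _ ⟨w, hw, rfl⟩
    exact mem_subgroupOf.2 ((mem_normalizer_iff.1 (hNM n.2) w).1 (mem_subgroupOf.1 hw))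
  let φ : ↥N →* MulAut (↥W ⧸ D.subgroupOf W) :=
    { toFun := fun n => QuotientGroup.congr _ _ (act n) (hmapD n)
      map_one' := MulEquiv.ext fun q => by
        obtain ⟨w, rfl⟩ := QuotientGroup.mk_surjective q
        show (QuotientGroup.mk (act 1 w) : ↥W ⧸ D.subgroupOf W) = QuotientGroup.mk w
        rw [map_one]; rfl
      map_mul' := fun a b => MulEquiv.ext fun q => by
        obtain ⟨w, rfl⟩ := QuotientGroup.mk_surjective q
        show (QuotientGroup.mk (act (a * b) w) : ↥W ⧸ D.subgroupOf W) = QuotientGroup.mk (act a (act b w))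
        rw [map_mul]; rfl }
  have hφ : ∀ (n : ↥N) (w : ↥W), φ n (π w) = π (act n w) := fun _ _ => rfl
  have hWker : ∀ n : ↥N, (n : G) ∈ W → φ n = 1 := fun n hn => MulEquiv.ext fun q => by
    obtain ⟨w, rfl⟩ := QuotientGroup.mk'_surjective _ q
    rw [hφ]
    refine QuotientGroup.eq.2 (mem_subgroupOf.2 ?_)
    show ((n : G) * w * (n : G)⁻¹)⁻¹ * w ∈ D
    rw [show ((n : G) * w * (n : G)⁻¹)⁻¹ * w = ⁅(n : G), (w : G)⁻¹⁆ by rw [commutatorElement_def]; group]
    exact comm_mem_sq hn (inv_mem w.2)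
  -- the common involution
  obtain ⟨v, hvW, hvD, hvf, hvu⟩ := h.fixed
  let H : Set (MulAut (↥W ⧸ D.subgroupOf W)) := {s | ∃ (t : G) (ht : t ∈ (S : Subgroup G)), φ ⟨t, hSN ht⟩ = s}
  set v' := π ⟨v, hvW⟩ with hv'
  have hv1 : v' ≠ 1 := fun e => hvD (mem_subgroupOf.1 ((QuotientGroup.eq_one_iff _).1 e))
  have hv2 : v' * v' = 1 := by
    rw [hv', ← map_mul]
    exact (QuotientGroup.eq_one_iff _).2 (mem_subgroupOf.2 (mem_sq hvW))
  have hcommon : ∀ U : Subgroup (↥W ⧸ D.subgroupOf W), U ≠ ⊥ → (∀ s ∈ H, ∀ u ∈ U, s u ∈ U) → v' ∈ U := by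
    intro U hU hinv
    have hv := hvu ((U.comap π).map W.subtype) (map_subtype_le _)
      (fun d hd => ⟨⟨d, sq_le hd⟩, by
        show π _ ∈ U
        rw [show π ⟨d, sq_le hd⟩ = 1 from (QuotientGroup.eq_one_iff _).2 (mem_subgroupOf.2 hd)]
        exact one_mem _, rfl⟩)
      (fun hle => hU ((eq_bot_iff_forall _).2 fun u hu => by
        obtain ⟨w, rfl⟩ := QuotientGroup.mk'_surjective _ u
        exact (QuotientGroup.eq_one_iff _).2 (mem_subgroupOf.2 (hle ⟨w, hu, rfl⟩))))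
      (fun t ht n hn => by
        obtain ⟨w, hw, rfl⟩ := hn
        exact ⟨act ⟨t, hSN ht⟩ w, hinv _ ⟨t, ht, rfl⟩ _ hw, rfl⟩)
    obtain ⟨w, hw, e⟩ := hv
    rw [show (⟨v, hvW⟩ : ↥W) = w from Subtype.ext e.symm] at hv'
    rw [hv']; exact hw
  have hfix : ∀ s ∈ H, s v' = v' := by
    rintro _ ⟨t, ht, rfl⟩
    rw [hv', hφ]
    refine QuotientGroup.eq.2 (mem_subgroupOf.2 ?_)
    show (t * v * t⁻¹)⁻¹ * v ∈ D
    have h1 := inv_mem (hvf t ht)
    have h2 : (t * v * t⁻¹)⁻¹ * v = v⁻¹ * (t * v * t⁻¹ * v⁻¹)⁻¹ * v := by group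
    rw [h2, show v⁻¹ * (t * v * t⁻¹ * v⁻¹)⁻¹ * v = (t * v * t⁻¹ * v⁻¹)⁻¹ by
      rw [h.central _ (inv_mem hvW) _ h1, inv_mul_cancel_right]]
    exact h1
  -- the odd image
  set NC := (centralizer (D : Set G)).subgroupOf N with hNC
  set A := NC.map φ with hA
  have hcentC : ∀ n : ↥N, ∀ c : G, c ∈ centralizer (D : Set G) → (n : G) * c * (n : G)⁻¹ ∈ centralizer (D : Set G) := by
    intro n c hc
    refine mem_centralizer_iff.2 fun d hd => ?_
    have hd' : (n : G)⁻¹ * d * n ∈ D := by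
      have := (mem_normalizer_iff.1 (inv_mem (hNM n.2)) d).1 hd
      rwa [inv_inv] at this
    calc d * ((n : G) * c * (n : G)⁻¹) = n * (((n : G)⁻¹ * d * n) * c) * (n : G)⁻¹ := by group
      _ = n * (c * ((n : G)⁻¹ * d * n)) * (n : G)⁻¹ := by rw [mem_centralizer_iff.1 hc _ hd']
      _ = _ := by group
  haveI hNCn : NC.Normal := ⟨fun c hc n => mem_subgroupOf.2 (hcentC n c (mem_subgroupOf.1 hc))⟩
  have hAodd : Odd (Nat.card A) := by
    have hsub : W.subgroupOf N ≤ NC := fun w hw =>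
      mem_subgroupOf.2 (mem_centralizer_iff.2 fun d hd => (h.central _ (mem_subgroupOf.1 hw) d hd).symm)
    have hPW : ((S.subtype hSN : Sylow 2 ↥N) : Subgroup ↥N) ⊓ NC = W.subgroupOf N := by
      rw [Sylow.coe_subtype]
      ext n
      simp only [mem_inf, mem_subgroupOf, hNC]
      exact ⟨fun hn => h.faithful _ hn.1 fun d hd => (mem_centralizer_iff.1 hn.2 d hd).symm,
        fun hn => ⟨h.le hn, mem_centralizer_iff.2 fun d hd => (h.central _ hn d hd).symm⟩⟩
    have hidx : ¬ 2 ∣ (W.subgroupOf N).relIndex NC := by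
      rw [← hPW, inf_relIndex_right]
      exact fun e => (S.subtype hSN).not_dvd_index
        (e.trans (Cfsg.Lib.Components.relIndex_dvd_index_of_normal_right _ NC))
    have hAdvd : Nat.card A ∣ (W.subgroupOf N).relIndex NC := by
      have h1 : Nat.card A = φ.ker.relIndex NC := by
        rw [hA, ← relIndex_bot_left, ← Subgroup.map_bot φ, relIndex_map_map, bot_sup_eq, relIndex_sup_right]
      rw [h1]
      exact relIndex_dvd_of_le_left NC fun w hw => MonoidHom.mem_ker.2 (hWker w (mem_subgroupOf.1 hw))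
    exact Nat.odd_iff.2 (Nat.two_dvd_ne_zero.1 fun e => hidx (e.trans hAdvd))
  set kN : ↥N := ⟨k, hk⟩
  suffices hk1 : φ kN = 1 by
    refine mem_centralizer_iff.2 fun w hw => ?_
    have hm : ∀ x ∈ W, k * x * k⁻¹ * x⁻¹ ∈ D := fun x hx => by
      have e := DFunLike.congr_fun hk1 (π ⟨x⁻¹, inv_mem hx⟩)
      rw [hφ] at e
      have e' := mem_subgroupOf.1 (QuotientGroup.eq.1 e)
      have : ((k * x⁻¹ * k⁻¹)⁻¹ * x⁻¹ : G) ∈ D := e'
      rwa [show (k * x⁻¹ * k⁻¹)⁻¹ * x⁻¹ = k * x * k⁻¹ * x⁻¹ by group] at this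
    set e := k * w * k⁻¹ * w⁻¹ with he
    have hke : k * e = e * k := (mem_centralizer_iff.1 hkD e (hm w hw)).symm
    have hit : ∀ i : ℕ, k ^ i * w * (k ^ i)⁻¹ = e ^ i * w := fun i => by
      induction i with
      | zero => simp
      | succ i ih =>
        have h3 : k * e ^ i = e ^ i * k := (Commute.pow_right (show Commute k e from hke) i).eq
        calc k ^ (i + 1) * w * (k ^ (i + 1))⁻¹ = k * (k ^ i * w * (k ^ i)⁻¹) * k⁻¹ := by rw [pow_succ']; group
          _ = (k * e ^ i) * w * k⁻¹ := by rw [ih]; group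
          _ = e ^ i * (k * w * k⁻¹) := by rw [h3]; group
          _ = e ^ (i + 1) * w := by rw [pow_succ, he]; group
    have h4 := hit (orderOf k)
    rw [pow_orderOf_eq_one, one_mul, inv_one, mul_one] at h4
    obtain ⟨j, hj⟩ := hodd
    have h5 : e ^ orderOf k = 1 := right_eq_mul.1 h4
    rw [hj, pow_add, pow_mul, pow_two, h.exp e (hm w hw), one_pow, one_mul, pow_one] at h5
    rw [he, mul_inv_eq_one, mul_inv_eq_iff_eq_mul] at h5
    exact h5.symm
  by_contra hk1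
  have hkA : φ kN ∈ A := mem_map_of_mem φ (mem_subgroupOf.2 hkD)
  set Nb := φ.range with hNb
  have hAN : A ≤ Nb := hA ▸ map_le_range φ _
  set A' := A.subgroupOf Nb with hA'
  have hA'c : Nat.card A' = Nat.card A := Nat.card_congr (subgroupOfEquivOfLe hAN).toEquiv
  haveI hA'n : A'.Normal := ⟨fun a ha g => by
    obtain ⟨a, haN⟩ := a
    obtain ⟨g, n, rfl⟩ := g
    obtain ⟨c, hc, hca⟩ := (mem_subgroupOf.1 ha : a ∈ A)
    refine mem_subgroupOf.2 ?_
    show φ n * a * (φ n)⁻¹ ∈ A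
    rw [show a = φ c from hca.symm, ← map_mul, ← map_inv, ← map_mul]
    exact mem_map_of_mem φ (hNCn.conj_mem c hc n)⟩
  -- the quotient by the odd image is `GL(3, 2)`
  let χ : ↥N →* ↥Nb ⧸ A' := (QuotientGroup.mk' A').comp φ.rangeRestrict
  let ρN : ↥N →* GL (Fin 3) (ZMod 2) := ρ.comp (inclusion hNM)
  have hρN : Function.Surjective ρN := fun y => by
    obtain ⟨g, rfl⟩ := hρ y
    obtain ⟨n, hn, hc⟩ := hsup g g.2
    refine ⟨⟨n, hn⟩, ?_⟩
    show ρ ⟨n, hNM hn⟩ = ρ g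
    rw [← inv_mul_eq_one, ← map_inv, ← map_mul, hρk]
    exact hc
  have hρker : ∀ n, ρN n = 1 ↔ n ∈ NC := fun n => by
    show ρ (inclusion hNM n) = 1 ↔ _
    rw [hρk]; exact (mem_subgroupOf).symm
  let τ : GL (Fin 3) (ZMod 2) →* ↥Nb ⧸ A' := ρN.liftOfSurjective hρN ⟨χ, fun n hn => by
    rw [MonoidHom.mem_ker]
    exact (QuotientGroup.eq_one_iff _).2 (mem_subgroupOf.2 (mem_map_of_mem φ ((hρker n).1 hn)))⟩
  have hτ : ∀ n, τ (ρN n) = χ n := fun n => MonoidHom.liftOfRightInverse_comp_apply ρN _ _ _ n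
  have hτs : Function.Surjective τ := fun y => by
    obtain ⟨⟨y, n, rfl⟩, rfl⟩ := QuotientGroup.mk'_surjective _ y
    exact ⟨ρN n, hτ n⟩
  haveI := simple_gl
  have hτi : Function.Injective τ := by
    rw [← MonoidHom.ker_eq_bot_iff]
    refine ((inferInstance : τ.ker.Normal).eq_bot_or_eq_top).resolve_right fun ht => ?_
    -- then the Sylow subgroup would act trivially
    have hH : ∀ s ∈ H, s = 1 := by
      rintro _ ⟨t, htS, rfl⟩
      have h1 : φ ⟨t, hSN htS⟩ ∈ A := by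
        have := hτ ⟨t, hSN htS⟩
        rw [MonoidHom.mem_ker.1 (ht.symm ▸ mem_top _)] at this
        exact mem_subgroupOf.1 ((QuotientGroup.eq_one_iff _).1 this.symm)
      obtain ⟨i, hi⟩ := IsPGroup.iff_orderOf.1 S.2 ⟨t, htS⟩
      rw [orderOf_mk] at hi
      have h2 : orderOf (φ ⟨t, hSN htS⟩) ∣ 2 ^ i := hi ▸ (orderOf_map_dvd φ ⟨t, hSN htS⟩).trans (dvd_of_eq (orderOf_mk _ _))
      exact orderOf_eq_one_iff.1 (Nat.eq_one_of_dvd_coprimes
        (Nat.Coprime.pow_left i (Nat.coprime_two_left.2 hAodd)) h2 (Subgroup.orderOf_dvd_natCard _ h1))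
    have hall : ∀ x : ↥W ⧸ D.subgroupOf W, x = 1 ∨ x = v' := fun x => by
      by_cases hx : x = 1
      · exact Or.inl hx
      have hz := hcommon (zpowers x) (fun e => hx (zpowers_eq_bot.1 e)) fun s hs u hu => by rw [hH s hs]; exact hu
      obtain ⟨i, hi⟩ := mem_zpowers_iff.1 hz
      obtain ⟨w, rfl⟩ := QuotientGroup.mk'_surjective _ x
      have hxx : π w * π w = 1 := by rw [← map_mul]; exact (QuotientGroup.eq_one_iff _).2 (mem_subgroupOf.2 (mem_sq w.2))
      rcases Int.even_or_odd i with ⟨j, rfl⟩ | ⟨j, rfl⟩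
      · rw [zpow_add, ← mul_zpow, hxx, one_zpow] at hi
        exact absurd hi.symm hv1
      · rw [zpow_add, zpow_one, two_mul, zpow_add, ← mul_zpow, hxx, one_zpow, one_mul] at hi
        exact Or.inr hi
    have hcard : Nat.card (↥W ⧸ D.subgroupOf W) = 2 ^ 8 := by
      have h1 := (D.subgroupOf W).card_mul_index
      rw [Nat.card_congr (subgroupOfEquivOfLe sq_le).toEquiv, h.cardD, h.cardW, Subgroup.index_eq_card] at h1
      omega
    have := Nat.card_le_card_of_surjective (fun b : Bool => if b then v' else 1) fun x => by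
      rcases hall x with e | e
      · exact ⟨false, by simp [e]⟩
      · exact ⟨true, by simp [e]⟩
    rw [hcard] at this
    simp at this
  let τe := MulEquiv.ofBijective τ ⟨hτi, hτs⟩
  -- a prime and its Sylow subgroup
  have hA1 : Nat.card A' ≠ 1 := fun e => hk1 (by
    rw [hA'c, Subgroup.card_eq_one] at e
    rw [e, mem_bot] at hkA
    exact hkA)
  set r := (Nat.card A').minFac
  have hr : r.Prime := Nat.minFac_prime hA1
  have hr2 : r ≠ 2 := fun e => hAodd.not_two_dvd_nat (hA'c ▸ e ▸ Nat.minFac_dvd _)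
  haveI : Fact r.Prime := ⟨hr⟩
  obtain ⟨R⟩ : Nonempty (Sylow r ↥A') := inferInstance
  set R₀ := (R : Subgroup ↥A').map A'.subtype with hR₀
  have hR₀1 : R₀ ≠ ⊥ := fun e => R.ne_bot_of_dvd_card (Nat.minFac_dvd _) (by
    rwa [hR₀, Subgroup.map_eq_bot_iff, ker_subtype, le_bot_iff] at e)
  have hfr := Sylow.normalizer_sup_eq_top R
  set Nr := normalizer ((R₀ : Subgroup ↥Nb) : Set ↥Nb) with hNr
  let η : ↥Nr →* GL (Fin 3) (ZMod 2) := τe.symm.toMonoidHom.comp ((QuotientGroup.mk' A').comp Nr.subtype)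
  have hη : Function.Surjective η := fun y => by
    obtain ⟨g, hg⟩ := QuotientGroup.mk'_surjective A' (τe y)
    obtain ⟨n, hn, a, ha, e⟩ := mem_sup_of_normal_right.1 (hfr ▸ mem_top g : g ∈ Nr ⊔ A')
    refine ⟨⟨n, hn⟩, τe.symm_apply_eq.2 ?_⟩
    rw [← hg, ← e, map_mul, show QuotientGroup.mk' A' a = 1 from (QuotientGroup.eq_one_iff a).2 ha, mul_one]
    rfl
  have hηk : η.ker = A'.subgroupOf Nr := by
    ext n
    rw [MonoidHom.mem_ker, mem_subgroupOf]
    show τe.symm (QuotientGroup.mk' A' (n : ↥Nb)) = 1 ↔ _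
    rw [MulEquiv.map_eq_one_iff, QuotientGroup.mk'_apply, QuotientGroup.eq_one_iff]
  have hηodd : Odd (Nat.card η.ker) := by
    refine Odd.of_dvd_nat (hA'c.symm ▸ hAodd) ?_
    rw [hηk]
    exact card_dvd_of_injective (inclusion (inf_le_left : A' ⊓ Nr ≤ A') |>.comp
      { toFun := fun x : ↥(A'.subgroupOf Nr) => (⟨((x : ↥Nr) : ↥Nb), mem_inf.2 ⟨mem_subgroupOf.1 x.2, (x : ↥Nr).2⟩⟩ : ↥(A' ⊓ Nr))
        map_one' := rfl
        map_mul' := fun _ _ => rfl }) fun x y e => Subtype.ext (Subtype.ext (congrArg (fun z : ↥A' => (z : ↥Nb)) e :))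
  -- the elementary abelian subgroup
  let Z : Subgroup ↥Nb :=
    { carrier := {x | x ∈ R₀ ∧ (∀ y ∈ R₀, x * y = y * x) ∧ x ^ r = 1}
      one_mem' := ⟨one_mem _, fun y _ => by rw [one_mul, mul_one], one_pow r⟩
      mul_mem' := fun {x y} hx hy => ⟨mul_mem hx.1 hy.1,
        fun w hw => ((show Commute x w from hx.2.1 w hw).mul_left (hy.2.1 w hw)).eq,
        by rw [(show Commute x y from hx.2.1 y hy.1).mul_pow, hx.2.2, hy.2.2, one_mul]⟩
      inv_mem' := fun {x} hx => ⟨inv_mem hx.1, fun w hw => ((show Commute x w from hx.2.1 w hw).inv_left).eq,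
        by rw [inv_pow, hx.2.2, inv_one]⟩ }
  haveI hZc : IsMulCommutative ↥Z := ⟨⟨fun x y => Subtype.ext (x.2.2.1 y y.2.1)⟩⟩
  have hZexp : ∀ x : ↥Z, x ^ r = 1 := fun x => Subtype.ext x.2.2.2
  have hR₀p : IsPGroup r ↥R₀ := R.2.map _
  obtain ⟨z₀, hz₀⟩ : ∃ z : ↥Z, z ≠ 1 := by
    haveI : Nontrivial ↥R₀ := (Subgroup.nontrivial_iff_ne_bot _).2 hR₀1
    obtain ⟨z, -, hzc, hzo⟩ := Cfsg.Lib.PGroups.exists_mem_center_of_normal_ne_bot hR₀p (N := (⊤ : Subgroup ↥R₀)) top_ne_bot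
    refine ⟨⟨z, z.2, fun y hy => (congrArg Subtype.val (mem_center_iff.1 hzc ⟨y, hy⟩)).symm, ?_⟩, fun e => ?_⟩
    · rw [← hzo, ← orderOf_coe, pow_orderOf_eq_one]
    · have : (z : ↥Nb) = 1 := congrArg Subtype.val e
      rw [← orderOf_eq_one_iff, orderOf_coe, hzo] at this
      exact hr.one_lt.ne' this
  have hZN : Nr ≤ normalizer (Z : Set ↥Nb) := by
    have key : ∀ g ∈ Nr, ∀ x ∈ Z, g * x * g⁻¹ ∈ Z := by
      rintro g hg x ⟨hxR, hxc, hxe⟩
      refine ⟨(mem_normalizer_iff.1 hg x).1 hxR, fun y hy => ?_, by rw [conj_pow, hxe, mul_one, mul_inv_cancel]⟩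
      have hy' : g⁻¹ * y * g ∈ R₀ := by
        have := (mem_normalizer_iff.1 (inv_mem hg) y).1 hy
        rwa [inv_inv] at this
      calc g * x * g⁻¹ * y = g * (x * (g⁻¹ * y * g)) * g⁻¹ := by group
        _ = g * ((g⁻¹ * y * g) * x) * g⁻¹ := by rw [hxc _ hy']
        _ = _ := by group
    intro g hg
    refine mem_normalizer_iff.2 fun x => ⟨key g hg x, fun hx => ?_⟩
    have := key g⁻¹ (inv_mem hg) _ hx
    rwa [show g⁻¹ * (g * x * g⁻¹) * g⁻¹⁻¹ = x by group] at this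
  let κ : ↥Nr →* MulAut ↥Z := Z.normalizerMonoidHom.comp (inclusion hZN)
  have hZp : IsPGroup r ↥Z := hR₀p.to_le fun x hx => hx.1
  obtain ⟨d, hd⟩ := IsPGroup.iff_card.1 hZp
  have hsmall : d ≤ 2 ∨ r = 3 ∧ d ≤ 5 := by
    by_cases hd2 : d ≤ 2
    · exact Or.inl hd2
    refine Or.inr (card_aut_eight_dvd hr hr2 (by omega) ?_)
    rw [← hd]
    refine (card_subgroup_dvd_card Z).trans ((card_subgroup_dvd_card Nb).trans ?_)
    refine card_mulAut_dvd (p := 2) (fun x => ?_) ?_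
    · obtain ⟨w, rfl⟩ := QuotientGroup.mk'_surjective _ x
      rw [pow_two, ← map_mul]
      exact (QuotientGroup.eq_one_iff _).2 (mem_subgroupOf.2 (mem_sq w.2))
    · have h1 := (D.subgroupOf W).card_mul_index
      rw [Nat.card_congr (subgroupOfEquivOfLe sq_le).toEquiv, h.cardD, h.cardW, Subgroup.index_eq_card] at h1
      omega
  obtain ⟨P⟩ : Nonempty (Sylow 2 ↥Nr) := inferInstance
  have hPker := two_kills η hη hηodd hr hr2 hZexp hd hsmall κ P
  -- `P` is a Sylow subgroup of the whole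
  have hNri : ¬ 2 ∣ Nr.index := by
    intro e
    have h1 : Nat.card ↥Nr = Nat.card η.ker * 168 := by
      rw [← η.ker.card_mul_index, index_ker, MonoidHom.range_eq_top.2 hη, card_top, card_gl]
    have h2 : Nat.card ↥Nb = Nat.card A' * 168 := by
      rw [← A'.card_mul_index, Subgroup.index_eq_card, ← Nat.card_congr τe.toEquiv, card_gl]
    have h3 := Nr.card_mul_index
    rw [h1, h2, mul_right_comm] at h3
    exact hAodd.not_two_dvd_nat (hA'c ▸ e.trans ⟨_, ((Nat.eq_of_mul_eq_mul_right (by norm_num) h3).symm.trans (mul_comm _ _))⟩)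
  have hPidx : ¬ 2 ∣ ((P : Subgroup ↥Nr).map Nr.subtype).index := by
    rw [index_map_subtype]
    exact fun e => (Nat.prime_two.dvd_mul.1 e).elim P.not_dvd_index hNri
  let P' : Sylow 2 ↥Nb := (P.2.map Nr.subtype).toSylow hPidx
  let σ : ↥(S : Subgroup G) →* ↥Nb := φ.rangeRestrict.comp (inclusion hSN)
  have hσp : IsPGroup 2 σ.range := by
    rw [MonoidHom.range_eq_map]
    exact IsPGroup.map (S.2.of_equiv Subgroup.topEquiv.symm) σ
  obtain ⟨Q, hQ⟩ := hσp.exists_le_sylow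
  obtain ⟨g, hg⟩ := MulAction.exists_smul_eq ↥Nb P' Q
  set z := g * (z₀ : ↥Nb) * g⁻¹ with hz
  have hzA : z ∈ A' := hA'n.conj_mem _ (map_subtype_le _ z₀.2.1) g
  have hzc : ∀ s ∈ H, s * (z : MulAut (↥W ⧸ D.subgroupOf W)) = (z : MulAut (↥W ⧸ D.subgroupOf W)) * s := by
    rintro _ ⟨t, ht, rfl⟩
    have h1 : σ ⟨t, ht⟩ ∈ (Q : Subgroup ↥Nb) := hQ ⟨_, rfl⟩
    rw [← hg, Sylow.coe_subgroup_smul, Subgroup.mem_pointwise_smul_iff_inv_smul_mem] at h1
    obtain ⟨p, hp, e⟩ := (h1 : (MulAut.conj g)⁻¹ • σ ⟨t, ht⟩ ∈ (P : Subgroup ↥Nr).map Nr.subtype)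
    have h2 : (p : ↥Nb) * z₀ * (p : ↥Nb)⁻¹ = z₀ :=
      congrArg Subtype.val (DFunLike.congr_fun (MonoidHom.mem_ker.1 (hPker hp)) z₀)
    have h3 : σ ⟨t, ht⟩ = g * (p : ↥Nb) * g⁻¹ := by
      have e' : (p : ↥Nb) = g⁻¹ * σ ⟨t, ht⟩ * g := e.trans (by simp [MulAut.smul_def])
      rw [e']; group
    have h4 : σ ⟨t, ht⟩ * z = z * σ ⟨t, ht⟩ := by
      rw [h3, hz]
      calc g * (p : ↥Nb) * g⁻¹ * (g * (z₀ : ↥Nb) * g⁻¹) = g * ((p : ↥Nb) * z₀) * g⁻¹ := by group
        _ = g * ((z₀ : ↥Nb) * p) * g⁻¹ := by rw [mul_inv_eq_iff_eq_mul.1 h2]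
        _ = _ := by group
    exact congrArg Subtype.val h4
  have hzodd : Odd (orderOf (z : MulAut (↥W ⧸ D.subgroupOf W))) :=
    hAodd.of_dvd_nat (Subgroup.orderOf_dvd_natCard _ (mem_subgroupOf.1 hzA))
  have h1 := eq_one_of_common H hv1 hv2 hcommon hfix hzodd hzc
  refine hz₀ (Subtype.ext ?_)
  have h2 : z = 1 := Subtype.ext h1
  rw [hz, conj_eq_one_iff] at h2
  exact h2

end Cfsg.Lib.RuSylow
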